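/-
Central quotients of fusion systems: translation between the subgroups containing the centre and
their images, and the system of maps inducing maps of a subsystem of the quotient.
-/
import Cfsg.Agent.FusionLayer.ExtensionCondition
import Cfsg.Agent.FusionFactor.ImageSaturated
import Cfsg.Agent.FusionSolvable.Chain
import Cfsg.Agent.FusionTransport.Basic
import Cfsg.Agent.Fusion.PPrimeResidual

set_option autoImplicit false

namespace CfsgLib.FusionLayer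

open Cfsg Cfsg.FusionSystem CfsgLib.Fusion
open CfsgLib.FusionFactor (mem_preimageAlong preimageAlong_le exists_induced)
open CfsgLib.FusionTransport (mem_imageAlong induced_apply)

variable {Ω : Type*} [Group Ω] {S : Subgroup Ω} {Ω' : Type*} [Group Ω'] {S' : Subgroup Ω'}
  {F : FusionSystem S} {F' : FusionSystem S'} {θ : S →* Ω'} {Z : Subgroup Ω}
  {T' : Subgroup Ω'} {M' : FusionSystem T'} {p : ℕ}

/-! ### Central subgroups -/

theorem apply_eq_of_central (hZ : F.IsCentral Z) {P : Subgroup Ω} {φ : P →* Ω} (hφ : φ ∈ F.Hom P)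
    {x : P} (hx : (x : Ω) ∈ Z) : φ x = x := by
  obtain ⟨ψ, -, h1, h2⟩ := hZ.2 P φ hφ
  rw [← h1 x]
  exact h2 ⟨x, hx⟩

theorem central_le_centralizer (hZ : F.IsCentral Z) :
    Z ≤ Subgroup.centralizer (S : Set Ω) := fun z hz => Subgroup.mem_centralizer_iff.2 fun s hs => by
  have h : s * z * s⁻¹ = z :=
    apply_eq_of_central hZ (F.conj_mem le_rfl hs) (x := ⟨z, hZ.1 hz⟩) hz
  exact mul_inv_eq_iff_eq_mul.1 h

theorem stronglyClosed_of_central (hZ : F.IsCentral Z) : F.StronglyClosed Z :=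
  ⟨hZ.1, fun R hR φ hφ x => (apply_eq_of_central hZ hφ (hR x.2)).symm ▸ hR x.2⟩

theorem conj_eq_of_central (hZ : F.IsCentral Z) {z s : Ω} (hz : z ∈ Z) (hs : s ∈ S) :
    s * z * s⁻¹ = z :=
  mul_inv_eq_iff_eq_mul.2 (Subgroup.mem_centralizer_iff.1 (central_le_centralizer hZ hz) s hs)

/-! ### Images and preimages -/

theorem imageAlong_le_of (h : F.IsFactorSystem Z θ F') (P : Subgroup Ω) : imageAlong θ P ≤ S' :=
  h.2.2.1 ▸ Subgroup.map_le_range _ _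

theorem map_mem (h : F.IsFactorSystem Z θ F') (s : S) : θ s ∈ S' := h.2.2.1 ▸ ⟨s, rfl⟩

theorem mem_iff_of_ker (h : F.IsFactorSystem Z θ F') {P : Subgroup Ω} (hZP : Z ≤ P) {s : S} :
    θ s ∈ imageAlong θ P ↔ (s : Ω) ∈ P := by
  refine ⟨?_, fun hs => ⟨s, hs, rfl⟩⟩
  rintro ⟨t, ht, hts⟩
  have h1 : ((t⁻¹ * s : S) : Ω) ∈ Z := (h.2.1 _).1 (by rw [map_mul, map_inv, hts, inv_mul_cancel])
  have h2 := P.mul_mem (ht : (t : Ω) ∈ P) (hZP h1)
  simpa using h2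

theorem preimage_imageAlong (h : F.IsFactorSystem Z θ F') {P : Subgroup Ω} (hZP : Z ≤ P)
    (hP : P ≤ S) : preimageAlong θ (imageAlong θ P) = P := by
  ext x
  rw [mem_preimageAlong]
  exact ⟨fun ⟨hx, hm⟩ => (mem_iff_of_ker h hZP).1 hm,
    fun hx => ⟨hP hx, (mem_iff_of_ker h hZP).2 hx⟩⟩

theorem image_preimageAlong (h : F.IsFactorSystem Z θ F') {P' : Subgroup Ω'} (hP' : P' ≤ S') :
    imageAlong θ (preimageAlong θ P') = P' :=
  FusionTransport.imageAlong_preimageAlong (h.2.2.1.symm ▸ hP')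

theorem mem_normalizer_image_iff [Finite S] (h : F.IsFactorSystem Z θ F') {P : Subgroup Ω}
    (hZP : Z ≤ P) (hP : P ≤ S) {s : S} :
    θ s ∈ Subgroup.normalizer (imageAlong θ P : Set Ω') ↔
      (s : Ω) ∈ Subgroup.normalizer (P : Set Ω) := by
  constructor
  · intro hs
    refine Subgroup.mem_normalizer_iff.2 fun x => ⟨fun hx => ?_, fun hx => ?_⟩
    · have h1 := (Subgroup.mem_normalizer_iff.1 hs _).1
        ((mem_iff_of_ker h hZP (s := ⟨x, hP hx⟩)).2 hx)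
      rw [← map_inv, ← map_mul, ← map_mul] at h1
      exact (mem_iff_of_ker h hZP).1 h1
    · have hxS : x ∈ S := by
        have := S.mul_mem (S.mul_mem (S.inv_mem s.2) (hP hx)) s.2
        simpa [mul_assoc] using this
      refine (mem_iff_of_ker h hZP (s := ⟨x, hxS⟩)).1 ((Subgroup.mem_normalizer_iff.1 hs _).2 ?_)
      rw [← map_inv, ← map_mul, ← map_mul]
      exact (mem_iff_of_ker h hZP).2 hx
  · intro hs
    refine Subgroup.mem_normalizer_iff.2 fun y => ⟨?_, ?_⟩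
    · rintro ⟨x, hx, rfl⟩
      rw [← map_inv, ← map_mul, ← map_mul]
      exact (mem_iff_of_ker h hZP).2 ((Subgroup.mem_normalizer_iff.1 hs _).1 hx)
    · rintro ⟨x, hx, hxy⟩
      refine ⟨s⁻¹ * x * s, (Subgroup.mem_normalizer_iff''.1 hs x).1 hx, ?_⟩
      rw [map_mul, map_mul, map_inv, hxy]
      group

/-- Every map induces a map of the quotient. -/
theorem exists_image_map [Finite S] [Fact p.Prime] (hS : IsPGroup p S) (hF : F.IsSaturated p)
    (hZ : F.IsCentral Z) (h : F.IsFactorSystem Z θ F') {P : Subgroup Ω} {φ : P →* Ω}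
    (hφ : φ ∈ F.Hom P) :
    ∃ φ' ∈ F'.Hom (imageAlong θ P), InducedAlong θ φ φ' :=
  (FusionFactor.isSurjectiveMorphism_of_isFactorSystem hS hF (stronglyClosed_of_central hZ) h).1.2
    P φ hφ

/-- The value of an induced map at the image of a point. -/
theorem induced_value {P : Subgroup Ω} {φ : P →* Ω} {P' : Subgroup Ω'} {φ' : P' →* Ω'}
    (h : InducedAlong θ φ φ') (x : S) (hx : (x : Ω) ∈ P) (hx' : θ x ∈ P') :
    ∃ hφ : φ ⟨x, hx⟩ ∈ S, φ' ⟨θ x, hx'⟩ = θ ⟨φ ⟨x, hx⟩, hφ⟩ :=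
  ⟨h.2.1 _, induced_apply h ⟨x, hx⟩ x.2 (h.2.1 _) hx'⟩

theorem range_induced (hZ : F.IsCentral Z) (h : F.IsFactorSystem Z θ F') {P : Subgroup Ω}
    (hZP : Z ≤ P) {φ : P →* Ω} (hφ : φ ∈ F.Hom P) {φ' : imageAlong θ P →* Ω'}
    (hind : InducedAlong θ φ φ') : φ'.range = imageAlong θ φ.range ∧ Z ≤ φ.range := by
  refine ⟨le_antisymm ?_ ?_, fun z hz => ⟨⟨z, hZP hz⟩, apply_eq_of_central hZ hφ hz⟩⟩
  · rintro _ ⟨⟨_, s, hs, rfl⟩, rfl⟩
    obtain ⟨hm, he⟩ := induced_value hind s hs ⟨s, hs, rfl⟩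
    rw [he]
    exact ⟨_, ⟨_, rfl⟩, rfl⟩
  · rintro _ ⟨t, ⟨x, hx⟩, rfl⟩
    obtain ⟨hm, he⟩ := induced_value hind ⟨x, le_left hφ x.2⟩ x.2 ⟨_, x.2, rfl⟩
    exact ⟨_, he.trans (congrArg θ (Subtype.ext hx))⟩

/-! ### The maps inducing maps of `M'` -/

/-- The maps of `F` between subgroups of the preimage of `T'` inducing maps of `M'`. -/
def overHom (F : FusionSystem S) (θ : S →* Ω') (M' : FusionSystem T') (P : Subgroup Ω) :
    Set (P →* Ω) :=
  {φ | φ ∈ F.Hom P ∧ ∃ φ' ∈ M'.Hom (imageAlong θ P), InducedAlong θ φ φ'}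

theorem mem_preimage_of_over {P : Subgroup Ω} {φ : P →* Ω} (h : φ ∈ overHom F θ M' P) :
    P ≤ preimageAlong θ T' ∧ ∀ x : P, φ x ∈ preimageAlong θ T' := by
  obtain ⟨hφ, φ', hφ', hind⟩ := h
  have hP := le_left hφ
  refine ⟨fun x hx => mem_preimageAlong.2 ⟨hP hx, (le_left hφ') ⟨_, hx, rfl⟩⟩, fun x => ?_⟩
  obtain ⟨hm, he⟩ := induced_value hind ⟨x, hP x.2⟩ x.2 ⟨_, x.2, rfl⟩
  exact mem_preimageAlong.2 ⟨hm, he ▸ apply_mem hφ' _⟩

/-- The system of maps inducing maps of `M'`. -/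
def overSystem (F : FusionSystem S) (θ : S →* Ω') (M' : FusionSystem T') :
    FusionSystem (preimageAlong θ T') where
  Hom P := overHom F θ M' P
  le_of_mem h := mem_preimage_of_over h
  injective_of_mem h := F.injective_of_mem h.1
  conj_mem := by
    intro P g hP hg
    obtain ⟨hgS, hgT⟩ := mem_preimageAlong.1 hg
    have hPS : P ≤ S := hP.trans (preimageAlong_le θ T')
    have hP' : imageAlong θ P ≤ T' := by
      rintro _ ⟨x, hx, rfl⟩
      exact (mem_preimageAlong.1 (hP hx)).2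
    refine ⟨F.conj_mem hPS hgS, _, M'.conj_mem hP' hgT, hPS,
      fun x => S.mul_mem (S.mul_mem hgS (hPS x.2)) (S.inv_mem hgS), fun x => ⟨_, x.2, rfl⟩,
      fun x => ?_⟩
    show θ ⟨g, hgS⟩ * θ ⟨x, hPS x.2⟩ * (θ ⟨g, hgS⟩)⁻¹ = _
    rw [← map_inv, ← map_mul, ← map_mul]
    rfl
  comp_mem := by
    rintro P Q φ ψ ⟨hφ, φ', hφ', hind⟩ ⟨hψ, ψ', hψ', hind'⟩ hh
    have hP := le_left hφ
    have hQ : ∀ y : imageAlong θ P, φ' y ∈ imageAlong θ Q := by
      rintro ⟨_, s, hs, rfl⟩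
      obtain ⟨hm, he⟩ := induced_value hind s hs ⟨s, hs, rfl⟩
      rw [he]
      exact ⟨_, hh _, rfl⟩
    refine ⟨F.comp_mem hφ hψ hh, _, M'.comp_mem hφ' hψ' hQ, hP,
      fun x => apply_mem hψ ⟨φ x, hh x⟩, fun x => ⟨_, x.2, rfl⟩, fun x => ?_⟩
    obtain ⟨hm, he⟩ := induced_value hind ⟨x, hP x.2⟩ x.2 ⟨_, x.2, rfl⟩
    obtain ⟨hm', he'⟩ := induced_value hind' ⟨φ x, hm⟩ (hh x) ⟨_, hh x, rfl⟩
    exact (congrArg ψ' (Subtype.ext he)).trans he'
  inv_mem := by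
    rintro P φ ⟨hφ, φ', hφ', hind⟩
    obtain ⟨ψ, hψ, hψv⟩ := F.inv_mem hφ
    obtain ⟨ψ', hψ', hψ'v⟩ := M'.inv_mem hφ'
    have hP := le_left hφ
    have hR : φ.range ≤ S := range_le hφ
    have hle : imageAlong θ φ.range ≤ φ'.range := by
      rintro _ ⟨t, ⟨x, hx⟩, rfl⟩
      obtain ⟨hm, he⟩ := induced_value hind ⟨x, hP x.2⟩ x.2 ⟨_, x.2, rfl⟩
      exact ⟨_, he.trans (congrArg θ (Subtype.ext hx))⟩
    refine ⟨ψ, ⟨hψ, restrictHom ψ' hle, restrict_mem hψ' hle, hR, apply_mem hψ,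
      fun x => ⟨_, x.2, rfl⟩, ?_⟩, hψv⟩
    rintro ⟨_, x, rfl⟩
    obtain ⟨hm, he⟩ := induced_value hind ⟨x, hP x.2⟩ x.2 ⟨_, x.2, rfl⟩
    refine ((congrArg ψ' (Subtype.ext he.symm)).trans (hψ'v _)).trans ?_
    exact congrArg θ (Subtype.ext (hψv x).symm)

theorem overSystem_isSubsystemOf : (overSystem F θ M').IsSubsystemOf F := fun _ _ h => h.1

/-- Maps of `M'` lift to the preimage. -/
theorem exists_over_lift (h : F.IsFactorSystem Z θ F')
    (hM : M'.IsSubsystemOf F') {P' : Subgroup Ω'} {φ' : P' →* Ω'} (hφ' : φ' ∈ M'.Hom P') :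
    ∃ φ ∈ (overSystem F θ M').Hom (preimageAlong θ P'), InducedAlong θ φ φ' := by
  obtain ⟨hP'S, φ, hφ, hind⟩ := (h.2.2.2 P' φ').1 (hM P' hφ')
  refine ⟨φ, ⟨hφ, restrictHom φ' (fun y hy => ?_), restrict_mem hφ' _, hind.1, hind.2.1,
    fun x => ⟨_, x.2, rfl⟩, fun x => hind.2.2.2 x⟩, hind⟩
  obtain ⟨t, ht, rfl⟩ := hy
  exact (mem_preimageAlong.1 ht).2

/-- An isomorphism induces an isomorphism of the images. -/
theorem exists_image_iso [Finite S] [Fact p.Prime] (hS : IsPGroup p S) (hF : F.IsSaturated p)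
    (hZ : F.IsCentral Z) (h : F.IsFactorSystem Z θ F') {P Q : Subgroup Ω} (hZP : Z ≤ P)
    {e : P ≃* Q} (he : IsIso F e) :
    ∃ e' : imageAlong θ P ≃* imageAlong θ Q, IsIso F' e' ∧
      ∀ (x : S) (hx : (x : Ω) ∈ P) (h' : θ x ∈ imageAlong θ P),
        (e' ⟨θ x, h'⟩ : Ω') = θ ⟨e ⟨x, hx⟩, he.le_right (e ⟨x, hx⟩).2⟩ := by
  obtain ⟨φ', hφ', hind⟩ := exists_image_map hS hF hZ h he
  obtain ⟨e', he', hev⟩ := exists_iso hφ' (Q := imageAlong θ Q) (by
    rw [(range_induced hZ h hZP he hind).1, range_subtype_comp])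
  exact ⟨e', he', fun x hx h' => by
    obtain ⟨hm, hv⟩ := induced_value hind x hx h'
    rw [hev]
    exact hv⟩

/-- An automorphism is over `M'` exactly when it induces an automorphism of `M'`. -/
theorem mem_over_autGroup_iff (hZ : F.IsCentral Z) (h : F.IsFactorSystem Z θ F') {P : Subgroup Ω}
    (hZP : Z ≤ P) (hPT : P ≤ preimageAlong θ T') {γ : MulAut P} :
    γ ∈ (overSystem F θ M').autGroup P ↔ γ ∈ F.autGroup P ∧
      ∃ β ∈ M'.autGroup (imageAlong θ P), ∀ (x : S) (hx : (x : Ω) ∈ P)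
        (h' : θ x ∈ imageAlong θ P) (hm : (γ ⟨x, hx⟩ : Ω) ∈ S),
        (β ⟨θ x, h'⟩ : Ω') = θ ⟨γ ⟨x, hx⟩, hm⟩ := by
  have hPS := hPT.trans (preimageAlong_le θ T')
  have hP' : imageAlong θ P ≤ T' := by
    rintro _ ⟨x, hx, rfl⟩
    exact (mem_preimageAlong.1 (hPT hx)).2
  rw [mem_autGroup_iff hPT, mem_autGroup_iff hPS]
  constructor
  · rintro ⟨hγ, φ', hφ', hind⟩
    obtain ⟨β, hβ, hβv⟩ := exists_iso hφ' (Q := imageAlong θ P) (by
      rw [(range_induced hZ h hZP hγ hind).1, range_subtype_comp])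
    exact ⟨hγ, β, hβ.mem_autGroup, fun x hx h' hm => by
      obtain ⟨hm', hv⟩ := induced_value hind x hx h'
      rw [hβv]
      exact hv⟩
  · rintro ⟨hγ, β, hβ, hv⟩
    exact ⟨hγ, _, (mem_autGroup_iff hP').1 hβ, hPS, fun x => hPS (γ x).2,
      fun x => ⟨_, x.2, rfl⟩, fun x => hv ⟨x, hPS x.2⟩ x.2 _ _⟩

/-! ### The automorphisms trivial modulo `Z` -/

/-- The automorphisms in `F` of `P` trivial modulo `Z`. -/
def kerAut (hZ : F.IsCentral Z) {P : Subgroup Ω} (hP : P ≤ S) : Subgroup (MulAut P) where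
  carrier := {γ | γ ∈ F.autGroup P ∧ ∀ x : P, ((x⁻¹ * γ x : P) : Ω) ∈ Z}
  one_mem' := ⟨one_mem _, fun x => by simp⟩
  mul_mem' := by
    rintro a b ⟨ha, ha'⟩ ⟨hb, hb'⟩
    refine ⟨mul_mem ha hb, fun x => ?_⟩
    rw [MulAut.mul_apply, show x⁻¹ * a (b x) = (x⁻¹ * b x) * ((b x)⁻¹ * a (b x)) by group,
      Subgroup.coe_mul]
    exact mul_mem (hb' x) (ha' _)
  inv_mem' := by
    rintro a ⟨ha, ha'⟩
    refine ⟨inv_mem ha, fun x => ?_⟩
    have h1 := inv_mem (ha' (a⁻¹ x))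
    rwa [← Subgroup.coe_inv, MulAut.apply_inv_self, mul_inv_rev, inv_inv] at h1

theorem mem_kerAut {hZ : F.IsCentral Z} {P : Subgroup Ω} {hP : P ≤ S} {γ : MulAut P} :
    γ ∈ kerAut hZ hP ↔ γ ∈ F.autGroup P ∧ ∀ x : P, ((x⁻¹ * γ x : P) : Ω) ∈ Z := Iff.rfl

theorem kerAut_isPGroup [Finite S] (hS : IsPGroup p S) (hZ : F.IsCentral Z) {P : Subgroup Ω}
    (hP : P ≤ S) [Fact p.Prime] : IsPGroup p (kerAut hZ hP) := by
  have := finite_of_le hP
  obtain ⟨j, hj⟩ := (hS.to_le hP).exists_card_eq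
  rintro ⟨γ, hγ, hγ'⟩
  refine ⟨j, Subtype.ext ?_⟩
  refine pow_eq_one_of_displacement (fun x => Subtype.ext ?_) fun x => hj ▸ pow_card_eq_one'
  exact apply_eq_of_central hZ ((mem_autGroup_iff hP).1 hγ) (hγ' x)

theorem kerAut_comm (hZ : F.IsCentral Z) {P : Subgroup Ω} {hP : P ≤ S} {a b : MulAut P}
    (ha : a ∈ kerAut hZ hP) (hb : b ∈ kerAut hZ hP) : a * b = b * a := by
  refine MulEquiv.ext fun x => Subtype.ext ?_
  have hfix : ∀ {c : MulAut P}, c ∈ kerAut hZ hP → ∀ y : P, (y : Ω) ∈ Z → c y = y :=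
    fun {c} hc y hy => Subtype.ext (apply_eq_of_central hZ ((mem_autGroup_iff hP).1 hc.1) hy)
  have key : ∀ {c d : MulAut P}, c ∈ kerAut hZ hP → d ∈ kerAut hZ hP →
      (c (d x) : Ω) = (x : Ω) * ((x⁻¹ * c x : P) : Ω) * ((x⁻¹ * d x : P) : Ω) := by
    intro c d hc hd
    conv_lhs => rw [show d x = x * (x⁻¹ * d x) by group, map_mul, hfix hc _ (hd.2 x)]
    simp
  rw [MulAut.mul_apply, MulAut.mul_apply, key ha hb, key hb ha, mul_assoc, mul_assoc]
  refine congrArg _ ?_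
  exact (Subgroup.mem_centralizer_iff.1 (central_le_centralizer hZ (ha.2 x)) _
    (hZ.1 (hb.2 x))).symm

theorem conj_mem_kerAut (hZ : F.IsCentral Z) {P Q : Subgroup Ω} {hP : P ≤ S} {hQ : Q ≤ S}
    {e : P ≃* Q} (he : IsIso F e) {γ : MulAut P} (hγ : γ ∈ kerAut hZ hP) :
    MulAut.congr e γ ∈ kerAut hZ hQ := by
  refine ⟨congr_mem_autGroup he hγ.1, fun y => ?_⟩
  obtain ⟨x, rfl⟩ := e.surjective y
  rw [congr_apply, ← map_inv, ← map_mul]
  have h1 : (e (x⁻¹ * γ x) : Ω) = ((x⁻¹ * γ x : P) : Ω) := apply_eq_of_central hZ he (hγ.2 x)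
  rw [h1]
  exact hγ.2 x

theorem kerAut_mem_over (hZ : F.IsCentral Z) (h : F.IsFactorSystem Z θ F') {P : Subgroup Ω}
    (hZP : Z ≤ P) (hPT : P ≤ preimageAlong θ T') {γ : MulAut P}
    (hγ : γ ∈ kerAut hZ (hPT.trans (preimageAlong_le θ T'))) :
    γ ∈ (overSystem F θ M').autGroup P := by
  refine (mem_over_autGroup_iff hZ h hZP hPT).2 ⟨hγ.1, 1, one_mem _, fun x hx h' hm => ?_⟩
  show θ x = θ ⟨γ ⟨x, hx⟩, hm⟩
  have h1 := (h.2.1 (x⁻¹ * ⟨γ ⟨x, hx⟩, hm⟩)).2 (hγ.2 ⟨x, hx⟩)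
  rw [map_mul, map_inv, inv_mul_eq_one] at h1
  exact h1

/-- Automorphisms with the same image differ by an automorphism trivial modulo `Z`. -/
theorem mem_kerAut_of_same (hZ : F.IsCentral Z) (h : F.IsFactorSystem Z θ F') {P : Subgroup Ω}
    {hP : P ≤ S} {a b : MulAut P} (ha : a ∈ F.autGroup P) (hb : b ∈ F.autGroup P)
    (heq : ∀ x : P, θ ⟨a x, hP (a x).2⟩ = θ ⟨b x, hP (b x).2⟩) : a⁻¹ * b ∈ kerAut hZ hP := by
  refine ⟨mul_mem (inv_mem ha) hb, fun x => ?_⟩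
  have h1 : ((a x)⁻¹ * b x : P).1 ∈ Z := (h.2.1 (⟨a x, hP (a x).2⟩⁻¹ * ⟨b x, hP (b x).2⟩)).1 (by
    rw [map_mul, map_inv, heq x, inv_mul_cancel])
  have h2 : (a⁻¹ ((a x)⁻¹ * b x) : P) = (a x)⁻¹ * b x :=
    Subtype.ext (apply_eq_of_central hZ ((mem_autGroup_iff hP).1 (inv_mem ha)) h1)
  rw [MulAut.mul_apply, show x⁻¹ * a⁻¹ (b x) = a⁻¹ ((a x)⁻¹ * b x) by
    rw [map_mul, map_inv, MulAut.inv_apply_self], h2]
  exact h1

/-! ### The family of subgroups over centric subgroups and the lifted system -/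

/-- `P` contains `Z`, lies in the preimage of `T'` and its image is centric in `M'`. -/
def InH (θ : S →* Ω') (Z : Subgroup Ω) (M' : FusionSystem T') (P : Subgroup Ω) : Prop :=
  Z ≤ P ∧ P ≤ preimageAlong θ T' ∧ M'.IsCentric (imageAlong θ P)

/-- `E` contains the automorphisms of order prime to `p` over `M'` of every member of the family. -/
def IsGen (F : FusionSystem S) (p : ℕ) (θ : S →* Ω') (Z : Subgroup Ω) (M' : FusionSystem T')
    (E : FusionSystem (preimageAlong θ T')) : Prop :=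
  ∀ P : Subgroup Ω, InH θ Z M' P → ∀ γ ∈ (overSystem F θ M').autGroup P,
    (orderOf γ).Coprime p → γ ∈ E.autGroup P

/-- The lift of `M'`: the least system containing these automorphisms. -/
def liftSystem (F : FusionSystem S) (p : ℕ) (θ : S →* Ω') (Z : Subgroup Ω)
    (M' : FusionSystem T') : FusionSystem (preimageAlong θ T') :=
  PPrimeResidual.infSystem (overSystem F θ M') {E | IsGen F p θ Z M' E}

theorem liftSystem_isSubsystemOf_over :
    (liftSystem F p θ Z M').IsSubsystemOf (overSystem F θ M') := fun _ _ h => h.1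

theorem liftSystem_isSubsystemOf : (liftSystem F p θ Z M').IsSubsystemOf F := fun _ _ h => h.1.1

theorem liftSystem_le {E : FusionSystem (preimageAlong θ T')} (hE : IsGen F p θ Z M' E) :
    liftSystem F p θ Z M' ≤ E := fun _ _ h => h.2 E hE

theorem isGen_liftSystem : IsGen F p θ Z M' (liftSystem F p θ Z M') := by
  intro P hP γ hγ hc
  refine (mem_autGroup_iff hP.2.1).2 ⟨(mem_autGroup_iff hP.2.1).1 hγ, fun E hE => ?_⟩
  exact (mem_autGroup_iff hP.2.1).1 (hE P hP γ hγ hc)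

theorem InH.of_le [Finite T'] {P Q : Subgroup Ω}
    (hP : InH θ Z M' P) (hPQ : P ≤ Q) (hQ : Q ≤ preimageAlong θ T') : InH θ Z M' Q :=
  ⟨hP.1.trans hPQ, hQ, isCentric_of_le hP.2.2
    (Subgroup.map_mono fun _ hx => hPQ hx)
    (by rintro _ ⟨x, hx, rfl⟩; exact (mem_preimageAlong.1 (hQ hx)).2)⟩

end CfsgLib.FusionLayer
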