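/-
For every subgroup over a centric subgroup of the quotient subsystem, a group of automorphisms
containing the automorphisms of order prime to `p` and meeting the kernel of the projection in inner
automorphisms only.
-/
import Cfsg.Agent.FusionLayer.Lift.Basic
import Cfsg.Agent.FusionResidual.Residual

set_option autoImplicit false

namespace CfsgLib.FusionLayer

open Cfsg Cfsg.FusionSystem CfsgLib.Fusion
open CfsgLib.FusionFactor (mem_preimageAlong preimageAlong_le)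

/-- If conjugation by elements of order prime to `p` moves elements of a Sylow subgroup only within
the cosets of `N`, then `O^p(G)` meets the Sylow subgroup inside `N`. -/
theorem residual_inf_le {G : Type*} [Group G] [Finite G] {p : ℕ} [Fact p.Prime] (P : Sylow p G)
    {N : Subgroup G} (hN : ∀ g : G, (orderOf g).Coprime p → ∀ x ∈ (P : Subgroup G),
      g * x * g⁻¹ ∈ (P : Subgroup G) → x⁻¹ * (g * x * g⁻¹) ∈ N) :
    (P : Subgroup G) ⊓ pResidual p G ≤ N := by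
  rw [← FusionResidual.hyperfocal_eq P, FusionSystem.hyperfocalSubgroup, Subgroup.closure_le]
  rintro _ ⟨W, α, x, hW, hα, rfl⟩
  let H : Subgroup ((groupFusionSystem (P : Subgroup G)).autGroup W) :=
    { carrier := {a | ∀ x : W, (x : G)⁻¹ * ((a : MulAut W) x : G) ∈ N}
      one_mem' := fun x => by simp
      mul_mem' := fun {a b} ha hb x => by
        show (x : G)⁻¹ * ((a : MulAut W) ((b : MulAut W) x) : G) ∈ N
        rw [← mul_inv_cancel_left ((b : MulAut W) x : G) ((a : MulAut W) _ : G), ← mul_assoc]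
        exact mul_mem (hb x) (ha _)
      inv_mem' := fun {a} ha x => by
        have h1 := inv_mem (ha ((a : MulAut W)⁻¹ x))
        rw [MulAut.apply_inv_self, mul_inv_rev, inv_inv] at h1
        exact h1 }
  suffices h : pResidual p ((groupFusionSystem (P : Subgroup G)).autGroup W) ≤ H from h hα x
  rw [pResidual, Subgroup.closure_le]
  intro a ha y
  obtain ⟨-, -, g, hg⟩ := (mem_autGroup_iff hW).1 a.2
  have hca : (orderOf (a : MulAut W)).Coprime p := by rwa [Subgroup.orderOf_coe]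
  obtain ⟨k, hk, hak⟩ := exists_coprime_pow hca g
  have hpow : ∀ (n : ℕ) (y : W), (((a : MulAut W) ^ n) y : G) = g ^ n * y * (g ^ n)⁻¹ := by
    intro n
    induction n with
    | zero => simp
    | succ n ih =>
      intro y
      rw [pow_succ', MulAut.mul_apply, show ((a : MulAut W) (((a : MulAut W) ^ n) y) : G) =
        g * (((a : MulAut W) ^ n) y : G) * g⁻¹ from hg _, ih, pow_succ']
      group
  have h1 := hpow k y
  rw [hak] at h1
  rw [h1]
  exact hN _ hk y (hW y.2) (h1 ▸ hW ((a : MulAut W) y).2)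

variable {Ω : Type*} [Group Ω] {S : Subgroup Ω} {Ω' : Type*} [Group Ω'] {S' : Subgroup Ω'}
  {F : FusionSystem S} {F' : FusionSystem S'} {θ : S →* Ω'} {Z : Subgroup Ω}
  {T' : Subgroup Ω'} {M' : FusionSystem T'} {p : ℕ}

/-- The standing hypotheses: `M'` is normal in the quotient of `F` by the central subgroup `Z`. -/
structure IsCentralSetup (F : FusionSystem S) (Z : Subgroup Ω) (θ : S →* Ω') (F' : FusionSystem S')
    (M' : FusionSystem T') (p : ℕ) : Prop where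
  pgroup : IsPGroup p S
  sat : F.IsSaturated p
  central : F.IsCentral Z
  factor : F.IsFactorSystem Z θ F'
  normal : M'.IsNormalIn F' p

namespace IsCentralSetup

theorem sat' (h : IsCentralSetup F Z θ F' M' p) : F'.IsSaturated p := h.normal.1.2.1

theorem invariant (h : IsCentralSetup F Z θ F' M' p) : M'.IsInvariantIn F' := h.normal.1.2.2

theorem pgroup' (h : IsCentralSetup F Z θ F' M' p) : IsPGroup p S' := by
  rw [← h.factor.2.2.1]
  exact h.pgroup.of_surjective θ.rangeRestrict θ.rangeRestrict_surjective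

theorem finite' [Finite S] (h : IsCentralSetup F Z θ F' M' p) : Finite S' := by
  rw [← h.factor.2.2.1]
  exact Finite.of_surjective θ.rangeRestrict θ.rangeRestrict_surjective

theorem le' (h : IsCentralSetup F Z θ F' M' p) : T' ≤ S' := h.invariant.2.1.1

theorem finiteT' [Finite S] (h : IsCentralSetup F Z θ F' M' p) : Finite T' :=
  haveI := h.finite'
  finite_of_le h.le'

theorem stronglyClosed [Finite S] [Fact p.Prime] (h : IsCentralSetup F Z θ F' M' p) :
    F.StronglyClosed (preimageAlong θ T') :=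
  FusionSolvable.stronglyClosed_preimage h.pgroup h.sat (stronglyClosed_of_central h.central)
    h.factor h.invariant.2.1

theorem center_le_preimage (h : IsCentralSetup F Z θ F' M' p) : Z ≤ preimageAlong θ T' :=
  FusionSolvable.le_preimage h.factor T'

theorem image_le' (_h : IsCentralSetup F Z θ F' M' p) {P : Subgroup Ω}
    (hP : P ≤ preimageAlong θ T') : imageAlong θ P ≤ T' := by
  rintro _ ⟨x, hx, rfl⟩
  exact (mem_preimageAlong.1 (hP hx)).2

/-- Conjugation by isomorphisms preserves the automorphisms over `M'`. -/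
theorem congr_mem_over [Finite S] [Fact p.Prime] (h : IsCentralSetup F Z θ F' M' p)
    {P Q : Subgroup Ω} (hZP : Z ≤ P) (hP : P ≤ preimageAlong θ T') (hQ : Q ≤ preimageAlong θ T')
    {e : P ≃* Q} (he : IsIso F e) {γ : MulAut P} (hγ : γ ∈ (overSystem F θ M').autGroup P) :
    MulAut.congr e γ ∈ (overSystem F θ M').autGroup Q := by
  have hZQ : Z ≤ Q := fun z hz =>
    (show (e ⟨z, hZP hz⟩ : Ω) = z from apply_eq_of_central h.central he (x := ⟨z, hZP hz⟩) hz) ▸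
      (e ⟨z, hZP hz⟩).2
  obtain ⟨hγF, β, hβ, hβv⟩ := (mem_over_autGroup_iff h.central h.factor hZP hP).1 hγ
  obtain ⟨e', he', hev⟩ := exists_image_iso h.pgroup h.sat h.central h.factor hZP he
  refine (mem_over_autGroup_iff h.central h.factor hZQ hQ).2 ⟨congr_mem_autGroup he hγF,
    MulAut.congr e' β, congr_mem_of_invariant (strongInvariant_of_invariant h.invariant)
      (h.image_le' hP) (h.image_le' hQ) he' hβ, fun y hy h' hm => ?_⟩
  obtain ⟨x, hx⟩ := e.surjective ⟨y, hy⟩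
  have hxS : (x : Ω) ∈ S := le_left he x.2
  have hx' : θ ⟨x, hxS⟩ ∈ imageAlong θ P := ⟨_, x.2, rfl⟩
  have h1 := hev ⟨x, hxS⟩ x.2 hx'
  have h2 : e' ⟨θ ⟨x, hxS⟩, hx'⟩ = ⟨θ y, h'⟩ := Subtype.ext (h1.trans
    (congrArg θ (Subtype.ext (congrArg Subtype.val hx : (e x : Ω) = y))))
  rw [← h2, congr_apply]
  have hγx : ((γ x : P) : Ω) ∈ S := le_left he (γ x).2
  have h3 : β ⟨θ ⟨x, hxS⟩, hx'⟩ = ⟨θ ⟨γ x, hγx⟩, ⟨_, (γ x).2, rfl⟩⟩ :=
    Subtype.ext (hβv ⟨x, hxS⟩ x.2 hx' hγx)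
  rw [h3]
  refine (hev ⟨γ x, hγx⟩ (γ x).2 _).trans (congrArg θ (Subtype.ext ?_))
  show (e (γ x) : Ω) = (MulAut.congr e γ ⟨y, hy⟩ : Ω)
  rw [← hx, congr_apply]

theorem isFullyNormalized_image [Finite S] [Fact p.Prime] (h : IsCentralSetup F Z θ F' M' p)
    {R : Subgroup Ω} (hZR : Z ≤ R) (hR : F.IsFullyNormalized R) :
    F'.IsFullyNormalized (imageAlong θ R) := by
  have := h.finite'
  refine ⟨imageAlong_le_of h.factor R, fun R' hR' => ?_⟩
  obtain ⟨φ', hφ', hr⟩ := hR'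
  obtain ⟨hle, φ, hφ, hind⟩ := (h.factor.2.2.2 _ φ').1 hφ'
  have key : ∀ P : Subgroup Ω, P = R → ∀ ψ : P →* Ω, ψ ∈ F.Hom P → InducedAlong θ ψ φ' →
      ∃ R'' : Subgroup Ω, Z ≤ R'' ∧ F.IsConj R R'' ∧ imageAlong θ R'' = R' := by
    rintro P rfl ψ hψ hi
    obtain ⟨e1, e2⟩ := range_induced h.central h.factor hZR hψ hi
    exact ⟨ψ.range, e2, ⟨ψ, hψ, rfl⟩, e1.symm.trans hr⟩
  obtain ⟨R'', hZR'', hconj, rfl⟩ :=
    key _ (preimage_imageAlong h.factor hZR hR.1) φ hφ hind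
  obtain ⟨hRa, hRr⟩ := automized_receptive h.pgroup h.sat hR
  obtain ⟨χ, hχ, hχN, -⟩ := exists_map_normalizerIn h.pgroup hRa hRr (isConj_symm hconj)
  obtain ⟨χ', hχ', hχi⟩ := exists_image_map h.pgroup h.sat h.central h.factor hχ
  have hmem : ∀ y : normalizerIn S' (imageAlong θ R''),
      ∃ hy : (y : Ω') ∈ imageAlong θ (normalizerIn S R''),
        χ' ⟨y, hy⟩ ∈ normalizerIn S' (imageAlong θ R) := by
    rintro ⟨y, hyS, hyN⟩
    obtain ⟨s, rfl⟩ := h.factor.2.2.1.ge hyS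
    have hs : (s : Ω) ∈ normalizerIn S R'' := ⟨s.2,
      (mem_normalizer_image_iff h.factor hZR'' (le_of_isConj_right hconj)).1 hyN⟩
    refine ⟨⟨s, hs, rfl⟩, ?_⟩
    obtain ⟨hm, he⟩ := induced_value hχi s hs ⟨s, hs, rfl⟩
    rw [he]
    exact ⟨map_mem h.factor _, (mem_normalizer_image_iff h.factor hZR hR.1).2 (hχN _).2⟩
  have := finite_of_le (normalizerIn_le S' (imageAlong θ R))
  refine Nat.card_le_card_of_injective (fun y : normalizerIn S' (imageAlong θ R'') =>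
    (⟨χ' ⟨y, (hmem y).1⟩, (hmem y).2⟩ : normalizerIn S' (imageAlong θ R))) fun a b hab => ?_
  exact Subtype.ext (congrArg Subtype.val
    (F'.injective_of_mem hχ' (congrArg Subtype.val hab : χ' _ = χ' _)) :)

/-- Lifts of trivial extensions. -/
theorem exists_lift_trivialExt [Finite S] [Fact p.Prime] (h : IsCentralSetup F Z θ F' M' p)
    {R : Subgroup Ω} (hR : InH θ Z M' R) {g : MulAut R}
    (hg : g ∈ (overSystem F θ M').autGroup R) :
    ∃ (Q : Subgroup Ω) (hRQ : R ≤ Q) (b : MulAut Q), Q ≤ S ∧ b ∈ F.autGroup Q ∧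
      (∀ (c : S), θ c ∈ centralizerIn S' (imageAlong θ R) → (c : Ω) ∈ Q) ∧
      (∀ x : R, ((g x : R) : Ω)⁻¹ * (b (Subgroup.inclusion hRQ x) : Ω) ∈ Z) ∧
      ∀ x : Q, (∀ hx : (x : Ω) ∈ S, θ ⟨x, hx⟩ ∈ centralizerIn S' (imageAlong θ R)) →
        (x : Ω)⁻¹ * (b x : Ω) ∈ R := by
  obtain ⟨hZR, hRT, hRc⟩ := hR
  have := h.finite'
  have hRS := hRT.trans (preimageAlong_le θ T')
  obtain ⟨hgF, β, hβ, hβv⟩ := (mem_over_autGroup_iff h.central h.factor hZR hRT).1 hg
  obtain ⟨B, hB, hB1, hB2⟩ := trivialExt_of_normal h.pgroup' h.normal hRc hβ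
  obtain ⟨W, hWdef⟩ : ∃ W, W = imageAlong θ R ⊔ centralizerIn S' (imageAlong θ R) := ⟨_, rfl⟩
  have hWS : imageAlong θ R ⊔ centralizerIn S' (imageAlong θ R) ≤ S' :=
    sup_le (imageAlong_le_of h.factor R) (centralizerIn_le _ _)
  obtain ⟨-, φ, hφ, hind⟩ :=
    (h.factor.2.2.2 _ _).1 ((mem_autGroup_iff hWS).1 hB)
  obtain ⟨Q, hQdef⟩ : ∃ Q,
      Q = preimageAlong θ (imageAlong θ R ⊔ centralizerIn S' (imageAlong θ R)) := ⟨_, rfl⟩
  subst hQdef
  have hRQ : R ≤ preimageAlong θ (imageAlong θ R ⊔ centralizerIn S' (imageAlong θ R)) :=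
    fun x hx => mem_preimageAlong.2 ⟨hRS hx, Subgroup.mem_sup_left ⟨_, hx, rfl⟩⟩
  have hQS := preimageAlong_le θ (imageAlong θ R ⊔ centralizerIn S' (imageAlong θ R))
  have := finite_of_le hQS
  obtain ⟨b, hb, hbv⟩ := exists_iso hφ
    (Q := preimageAlong θ (imageAlong θ R ⊔ centralizerIn S' (imageAlong θ R))) (by
      refine Subgroup.eq_of_le_of_card_ge ?_ (by
        rw [← imgHom_self, card_imgHom (F.injective_of_mem hφ) le_rfl])
      rintro _ ⟨x, rfl⟩
      obtain ⟨hm, he⟩ := induced_value hind ⟨x, hQS x.2⟩ x.2 (mem_preimageAlong.1 x.2).2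
      refine mem_preimageAlong.2 ⟨hm, ?_⟩
      rw [← he]
      exact (B _).2)
  have hbθ : ∀ (x : preimageAlong θ (imageAlong θ R ⊔ centralizerIn S' (imageAlong θ R))) hm,
      θ ⟨(b x : Ω), hm⟩ = (B ⟨θ ⟨x, hQS x.2⟩, (mem_preimageAlong.1 x.2).2⟩ : Ω') := by
    intro x hm
    obtain ⟨hm', he⟩ := induced_value hind ⟨x, hQS x.2⟩ x.2 (mem_preimageAlong.1 x.2).2
    exact (congrArg θ (Subtype.ext (hbv x))).trans he.symm
  refine ⟨_, hRQ, b, hQS, hb.mem_autGroup, fun c hc => mem_preimageAlong.2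
    ⟨c.2, Subgroup.mem_sup_right hc⟩, fun x => ?_, fun x hx => ?_⟩
  · refine (h.factor.2.1 (⟨g x, hRS (g x).2⟩⁻¹ *
      ⟨b (Subgroup.inclusion hRQ x), hQS (b _).2⟩)).1 ?_
    rw [map_mul, map_inv, hbθ, inv_mul_eq_one, ← hβv ⟨x, hRS x.2⟩ x.2 ⟨_, x.2, rfl⟩]
    exact (hB1 ⟨θ ⟨x, hRS x.2⟩, ⟨_, x.2, rfl⟩⟩).symm
  · refine (mem_iff_of_ker h.factor hZR
      (s := ⟨x, hQS x.2⟩⁻¹ * ⟨b x, hQS (b x).2⟩)).1 ?_
    rw [map_mul, map_inv, hbθ]
    exact (hB2 ⟨θ ⟨x, hQS x.2⟩, (mem_preimageAlong.1 x.2).2⟩ (hx _)).1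

/-- A good group of automorphisms. -/
def GoodAut (h : IsCentralSetup F Z θ F' M' p) (R : Subgroup Ω) (A : Subgroup (MulAut R)) : Prop :=
  (∀ γ ∈ (overSystem F θ M').autGroup R, (orderOf γ).Coprime p → γ ∈ A) ∧
    autInducedBy (preimageAlong θ T') R ≤ A ∧
    ∀ (hR : R ≤ S), ∀ a ∈ A, a ∈ kerAut h.central hR → a ∈ Inn R

/-- A good group exists at a fully normalized member of the family. -/
theorem exists_goodAut_fullyNormalized [Finite S] [Fact p.Prime]
    (h : IsCentralSetup F Z θ F' M' p) {R : Subgroup Ω} (hR : InH θ Z M' R)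
    (hRn : F.IsFullyNormalized R) : ∃ A, h.GoodAut R A := by
  obtain ⟨hZR, hRT, hRc⟩ := hR
  have hRS := hRT.trans (preimageAlong_le θ T')
  have hT := preimageAlong_le θ T'
  have := finite_of_le hRS
  have := h.finite'
  have := h.finiteT'
  obtain ⟨hRa, hRr⟩ := automized_receptive h.pgroup h.sat hRn
  have hsc := h.stronglyClosed
  obtain ⟨K, hKdef⟩ : ∃ K, K = kerAut h.central hRS := ⟨_, rfl⟩
  obtain ⟨G, hGdef⟩ : ∃ G, G = (overSystem F θ M').autGroup R := ⟨_, rfl⟩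
  obtain ⟨TR, hTRdef⟩ : ∃ TR, TR = autInducedBy (preimageAlong θ T') R := ⟨_, rfl⟩
  have hGF : G ≤ F.autGroup R := hGdef ▸ fun γ hγ =>
    ((mem_over_autGroup_iff h.central h.factor hZR hRT).1 hγ).1
  have hFG : F.autGroup R ≤ Subgroup.normalizer (G : Set (MulAut R)) := fun a ha => by
    refine mem_normalizer_of_conj_mem fun γ hγ => ?_
    rw [hGdef] at hγ ⊢
    rw [← congr_self_eq]
    exact h.congr_mem_over hZR hRT hRT ((mem_autGroup_iff hRS).1 ha) hγ
  have hKF : K ≤ F.autGroup R := hKdef ▸ fun γ hγ => hγ.1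
  have hFK : F.autGroup R ≤ Subgroup.normalizer (K : Set (MulAut R)) := fun a ha => by
    refine mem_normalizer_of_conj_mem fun γ hγ => ?_
    rw [hKdef] at hγ ⊢
    rw [← congr_self_eq]
    exact conj_mem_kerAut h.central ((mem_autGroup_iff hRS).1 ha) hγ
  have hKp : IsPGroup p K := hKdef ▸ kerAut_isPGroup h.pgroup h.central hRS
  -- the kernel consists of automorphisms induced by `S`
  have hKS : K ≤ autInducedBy S R := by
    have h1 := eq_autInducedBy_of_le hRa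
      (X := autInducedBy S R ⊔ K) (sup_le (autInducedBy_le_autGroup hRS) hKF)
      ((isPGroup_autInducedBy h.pgroup R).to_sup_of_normal_right' hKp
        ((autInducedBy_le_autGroup hRS).trans hFK)) le_sup_left
    exact h1 ▸ le_sup_right
  obtain ⟨P, hPdef⟩ : ∃ P, P = autInducedBy S R ⊓ G := ⟨_, rfl⟩
  have hKG : K ≤ G := fun γ hγ =>
    hGdef ▸ kerAut_mem_over h.central h.factor hZR hRT (hKdef ▸ hγ)
  have hTRP : TR ≤ P := hPdef ▸ hTRdef ▸ hGdef ▸
    le_inf (autInducedBy_mono hT R) (autInducedBy_le_autGroup hRT)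
  have hTRn : autInducedBy S R ≤ Subgroup.normalizer (TR : Set (MulAut R)) := fun a ha => by
    obtain ⟨s, hs, hsN, hsa⟩ := mem_autInducedBy_iff.1 ha
    refine mem_normalizer_of_conj_mem fun γ hγ => ?_
    rw [hTRdef] at hγ ⊢
    obtain ⟨t, ht, htN, hta⟩ := mem_autInducedBy_iff.1 hγ
    refine mem_autInducedBy_iff.2 ⟨s * t * s⁻¹,
      FusionFactor.conj_mem_of_stronglyClosed hsc hs ht,
      mul_mem (mul_mem hsN htN) (Subgroup.inv_mem _ hsN), fun x => ?_⟩
    obtain ⟨y, rfl⟩ := a.surjective x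
    rw [MulAut.mul_apply, MulAut.mul_apply, MulAut.inv_apply_self, hsa, hta, hsa]
    group
  -- every element of the Sylow subgroup is in `TR · K`
  have hdec : ∀ x ∈ P, ∃ t ∈ TR, ∃ k ∈ K, x = t * k := by
    intro x hx
    rw [hPdef] at hx
    obtain ⟨hxS, hxG⟩ := hx
    obtain ⟨s, hs, hsN, hsx⟩ := mem_autInducedBy_iff.1 hxS
    rw [hGdef] at hxG
    obtain ⟨-, β, hβ, hβv⟩ := (mem_over_autGroup_iff h.central h.factor hZR hRT).1 hxG
    have hβS : β ∈ autInducedBy S' (imageAlong θ R) := by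
      refine Subgroup.subset_closure ⟨θ ⟨s, hs⟩, map_mem h.factor _, ?_⟩
      rintro ⟨_, r, hr, rfl⟩
      refine (hβv r hr _ (hRS (x ⟨r, hr⟩).2)).trans ?_
      simp only [← map_inv, ← map_mul]
      exact congrArg θ (Subtype.ext (hsx ⟨r, hr⟩))
    have hTn : M'.IsFullyNormalized (imageAlong θ R) := isFullyNormalized_of_big h.pgroup' h.sat'
      h.invariant.1 h.invariant.2.1 (h.image_le' hRT) (h.isFullyNormalized_image hZR hRn)
    have heq := eq_autInducedBy_of_le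
      (automized_receptive (h.pgroup'.to_le h.le') h.normal.1.1 hTn).1
      (X := autInducedBy S' (imageAlong θ R) ⊓ M'.autGroup (imageAlong θ R)) inf_le_right
      ((isPGroup_autInducedBy h.pgroup' _).to_le inf_le_left)
      (le_inf (autInducedBy_mono h.le' _) (autInducedBy_le_autGroup (h.image_le' hRT)))
    obtain ⟨t', ht', ht'N, ht'v⟩ := mem_autInducedBy_iff.1 (heq.le ⟨hβS, hβ⟩)
    obtain ⟨t, rfl⟩ := h.factor.2.2.1.ge (h.le' ht')
    have htN : (t : Ω) ∈ Subgroup.normalizer (R : Set Ω) :=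
      (mem_normalizer_image_iff h.factor hZR hRS).1 ht'N
    have htT : (t : Ω) ∈ preimageAlong θ T' := mem_preimageAlong.2 ⟨t.2, ht'⟩
    refine ⟨R.normalizerMonoidHom ⟨t, htN⟩,
      hTRdef ▸ mem_autInducedBy_iff.2 ⟨t, htT, htN, fun _ => rfl⟩,
      (R.normalizerMonoidHom ⟨t, htN⟩)⁻¹ * x, ?_, (mul_inv_cancel_left _ _).symm⟩
    rw [hKdef]
    refine mem_kerAut_of_same h.central h.factor
      (autInducedBy_le_autGroup hRS (mem_autInducedBy_iff.2 ⟨t, t.2, htN, fun _ => rfl⟩))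
      (autInducedBy_le_autGroup hRS hxS) fun r => ?_
    rw [← hβv ⟨r, hRS r.2⟩ r.2 ⟨_, r.2, rfl⟩, ht'v, ← map_inv, ← map_mul, ← map_mul]
    rfl
  -- elements of order prime to `p` centralize the kernel modulo inner automorphisms
  have hcomm : ∀ g ∈ G, (orderOf g).Coprime p → ∀ k ∈ K, k⁻¹ * (g * k * g⁻¹) ∈ TR := by
    intro g hg _ k hk
    obtain ⟨Q, hRQ, b, hQS, hb, hQc, hb1, hb2⟩ :=
      h.exists_lift_trivialExt ⟨hZR, hRT, hRc⟩ (hGdef ▸ hg)
    obtain ⟨s, hs, hsN, hsk⟩ := mem_autInducedBy_iff.1 (hKS hk)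
    rw [hKdef] at hk
    have hsc' : θ ⟨s, hs⟩ ∈ centralizerIn S' (imageAlong θ R) := by
      refine mem_centralizerIn'.2 ⟨map_mem h.factor _, ?_⟩
      rintro _ ⟨r, hr, rfl⟩
      have h1 := (h.factor.2.1 (r⁻¹ * (⟨s, hs⟩ * r * ⟨s, hs⟩⁻¹))).2 (by
        have h2 := hk.2 ⟨r, hr⟩
        rw [Subgroup.coe_mul, InvMemClass.coe_inv, hsk] at h2
        exact h2)
      rw [map_mul, map_inv, inv_mul_eq_one, map_mul, map_mul, map_inv] at h1
      exact h1.symm
    have hsQ : s ∈ Q := hQc ⟨s, hs⟩ hsc'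
    obtain ⟨w, hwdef⟩ : ∃ w, w = s⁻¹ * (b ⟨s, hsQ⟩ : Ω) := ⟨_, rfl⟩
    have hw : w ∈ R := hwdef ▸ hb2 ⟨s, hsQ⟩ (fun _ => hsc')
    rw [hTRdef]
    refine mem_autInducedBy_iff.2 ⟨w, hRT hw, Subgroup.le_normalizer hw, fun x => ?_⟩
    obtain ⟨y, rfl⟩ := g.surjective x
    show ((k⁻¹ (g (k (g⁻¹ (g y)))) : R) : Ω) = _
    rw [MulAut.inv_apply_self]
    -- `g (k y)` differs from `b`'s value by a central element
    obtain ⟨z₁, hz₁, hbg⟩ : ∃ z₁ ∈ Z, (b (Subgroup.inclusion hRQ y) : Ω) = (g y : Ω) * z₁ :=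
      ⟨_, hb1 y, (mul_inv_cancel_left _ _).symm⟩
    obtain ⟨z₂, hz₂, hkv⟩ : ∃ z₂ ∈ Z, (k y : Ω) = (y : Ω) * z₂ :=
      ⟨_, hk.2 y, (mul_inv_cancel_left _ _).symm⟩
    have hgk : (g (k y) : Ω) = (g y : Ω) * z₂ := by
      have e : k y = y * ⟨z₂, hZR hz₂⟩ := Subtype.ext hkv
      rw [e, map_mul, Subgroup.coe_mul]
      exact congrArg _ (apply_eq_of_central h.central
        ((mem_autGroup_iff hRS).1 (hGF hg)) (x := ⟨z₂, hZR hz₂⟩) hz₂)
    have hbs : (b ⟨s, hsQ⟩ : Ω) * (g y : Ω) * (b ⟨s, hsQ⟩ : Ω)⁻¹ = (g y : Ω) * z₂ := by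
      have e : (⟨s, hsQ⟩ : Q) * Subgroup.inclusion hRQ y * (⟨s, hsQ⟩ : Q)⁻¹ =
          Subgroup.inclusion hRQ y * ⟨z₂, hRQ (hZR hz₂)⟩ := Subtype.ext (by
            show s * (y : Ω) * s⁻¹ = (y : Ω) * z₂
            rw [← hkv, hsk])
      have h3 := congrArg (fun v : Q => (b v : Ω)) e
      simp only [map_mul, map_inv, Subgroup.coe_mul, InvMemClass.coe_inv, hbg] at h3
      rw [show (b ⟨z₂, hRQ (hZR hz₂)⟩ : Ω) = z₂ from apply_eq_of_central h.central
        ((mem_autGroup_iff hQS).1 hb) (x := ⟨z₂, hRQ (hZR hz₂)⟩) hz₂] at h3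
      have hzc : ∀ u ∈ S, u * z₁ * u⁻¹ = z₁ := fun u hu => conj_eq_of_central h.central hz₁ hu
      have hz12 : z₂ * z₁ * z₂⁻¹ = z₁ := hzc z₂ (h.central.1 hz₂)
      have e1 : (b ⟨s, hsQ⟩ : Ω) * ((g y : Ω) * z₁) * (b ⟨s, hsQ⟩ : Ω)⁻¹ =
          (b ⟨s, hsQ⟩ : Ω) * (g y : Ω) * (b ⟨s, hsQ⟩ : Ω)⁻¹ * z₁ := by
        conv_rhs => rw [← hzc _ (hQS (b ⟨s, hsQ⟩).2)]
        group
      have e2 : (g y : Ω) * z₁ * z₂ = (g y : Ω) * z₂ * z₁ := by
        conv_lhs => rw [← hz12]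
        group
      rw [e1, e2] at h3
      exact mul_right_cancel h3
    have hgy : (w : Ω) * (g y : Ω) * w⁻¹ ∈ R :=
      R.mul_mem (R.mul_mem hw (g y).2) (R.inv_mem hw)
    have hsw : s * w = (b ⟨s, hsQ⟩ : Ω) := by rw [hwdef, mul_inv_cancel_left]
    have e : g (k y) = k ⟨w * (g y : Ω) * w⁻¹, hgy⟩ := by
      refine Subtype.ext ?_
      rw [hgk, ← hbs, hsk]
      show _ = s * (w * (g y : Ω) * w⁻¹) * s⁻¹
      rw [← hsw]
      group
    rw [e, MulAut.inv_apply_self]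
  have hKP : K ≤ P := hPdef ▸ le_inf hKS hKG
  -- `TR` is strongly closed in the Sylow subgroup
  have hclosed : ∀ a ∈ F.autGroup R, ∀ t ∈ TR, a * t * a⁻¹ ∈ autInducedBy S R →
      a * t * a⁻¹ ∈ TR := by
    intro a ha t ht hat
    rw [hTRdef] at ht ⊢
    obtain ⟨u, hu, huN, hut⟩ := mem_autInducedBy_iff.1 ht
    obtain ⟨ψ, hψ, hψv⟩ := exists_extension (T := R ⊔ Subgroup.zpowers u) hRr
      ((mem_autGroup_iff hRS).1 ha) (sup_le (le_extender hRS fun x => hRS (a x).2)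
        (Subgroup.zpowers_le.2 (mem_extender_of_congr ⟨hT hu, huN⟩ (α := t) hut
          (by rw [congr_self_eq]; exact hat))))
    have hu' : u ∈ R ⊔ Subgroup.zpowers u := Subgroup.mem_sup_right (Subgroup.mem_zpowers u)
    have himg : imgHom ψ R = R := imgHom_eq_of_agree le_sup_left hψv
    have hnu : ψ ⟨u, hu'⟩ ∈ Subgroup.normalizer (R : Set Ω) := by
      have h1 := map_mem_normalizer (ψ := ψ) (le_sup_left : R ≤ R ⊔ Subgroup.zpowers u)
        (g := ⟨u, hu'⟩) huN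
      rwa [himg] at h1
    refine mem_autInducedBy_iff.2
      ⟨ψ ⟨u, hu'⟩, stronglyClosed_apply hsc hψ hu, hnu, fun x => ?_⟩
    obtain ⟨y, rfl⟩ := a.surjective x
    show ((a (t (a⁻¹ (a y))) : R) : Ω) = _
    have hav : ∀ r : R, (a r : Ω) = ψ ⟨r, Subgroup.mem_sup_left r.2⟩ := fun r =>
      (hψv r (Subgroup.mem_sup_left r.2)).symm
    rw [MulAut.inv_apply_self, hav, hav, ← map_inv, ← map_mul, ← map_mul]
    exact congrArg ψ (Subtype.ext (hut y))
  have hPG : P ≤ G := hPdef ▸ inf_le_right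
  have hPS : P ≤ autInducedBy S R := hPdef ▸ inf_le_left
  have : Finite (MulAut R) := Finite.of_injective (fun f : MulAut R => (f : R → R))
    DFunLike.coe_injective
  have hsylF : IsSylowIn p (F.autGroup R) (autInducedBy S R) := hRa.2
  have hsyl : IsSylowIn p G P := hPdef ▸
    IsSylowIn.inf_normal hsylF (autInducedBy_le_autGroup hRS) hGF hFG
  obtain ⟨Psyl, hPsyl⟩ := hsyl
  have : Finite (MulAut R) := Finite.of_injective (fun f : MulAut R => (f : R → R))
    DFunLike.coe_injective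
  have hinf := residual_inf_le Psyl (N := TR.subgroupOf G) (fun g hg x hx hgx => by
    rw [hPsyl] at hx hgx
    obtain ⟨t, ht, k, hk, hxtk⟩ := hdec (x : MulAut R) (Subgroup.mem_subgroupOf.1 hx)
    have hgc : (orderOf (g : MulAut R)).Coprime p := by rwa [Subgroup.orderOf_coe]
    have hgF : (g : MulAut R) ∈ F.autGroup R := hGF g.2
    have hgk : (g : MulAut R) * k * (g : MulAut R)⁻¹ ∈ K :=
      (Subgroup.mem_normalizer_iff.1 (hFK hgF) k).1 hk
    have hgt : (g : MulAut R) * t * (g : MulAut R)⁻¹ ∈ P := by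
      have h1 := mul_mem (Subgroup.mem_subgroupOf.1 hgx) (inv_mem (hKP hgk))
      convert h1 using 1
      rw [Subgroup.coe_mul, Subgroup.coe_mul, InvMemClass.coe_inv, hxtk]
      group
    have h2 := hclosed _ hgF t ht (hPS hgt)
    refine Subgroup.mem_subgroupOf.2 ?_
    rw [Subgroup.coe_mul, Subgroup.coe_mul, Subgroup.coe_mul, InvMemClass.coe_inv,
      InvMemClass.coe_inv, hxtk,
      show (t * k)⁻¹ * ((g : MulAut R) * (t * k) * (g : MulAut R)⁻¹) =
        k⁻¹ * (t⁻¹ * ((g : MulAut R) * t * (g : MulAut R)⁻¹)) * k *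
          (k⁻¹ * ((g : MulAut R) * k * (g : MulAut R)⁻¹)) by group]
    exact mul_mem ((Subgroup.mem_normalizer_iff''.1 (hTRn (hKS hk)) _).1
      (mul_mem (inv_mem ht) h2)) (hcomm _ g.2 hgc k hk))
  refine ⟨(pResidual p G ⊔ TR.subgroupOf G).map G.subtype, fun γ hγ hc => ?_, ?_, fun _ a ha hak => ?_⟩
  · refine ⟨⟨γ, hGdef ▸ hγ⟩, Subgroup.mem_sup_left (Subgroup.subset_closure ?_), rfl⟩
    show (orderOf _).Coprime p
    rwa [← Subgroup.orderOf_coe]
  · intro γ hγ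
    have hγ' : γ ∈ TR := hTRdef ▸ hγ
    exact ⟨⟨γ, hPG (hTRP hγ')⟩, Subgroup.mem_sup_right hγ', rfl⟩
  · obtain ⟨a, ha, rfl⟩ := ha
    haveI : (pResidual p G).Normal := inferInstance
    obtain ⟨r, hr, n, hn, rfl⟩ := Subgroup.mem_sup_of_normal_left.1 ha
    have hn' : (n : MulAut R) ∈ TR := hn
    have hrP : r ∈ (Psyl : Subgroup G) := by
      rw [hPsyl]
      have h1 := mul_mem (hKP (hKdef ▸ hak)) (inv_mem (hTRP hn'))
      refine Subgroup.mem_subgroupOf.2 ?_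
      convert h1 using 1
      simp
    have haT : ((r * n : G) : MulAut R) ∈ TR := mul_mem (hinf ⟨hrP, hr⟩) hn'
    rw [hTRdef] at haT
    obtain ⟨u, hu, huN, huv⟩ := mem_autInducedBy_iff.1 haT
    have hu' : θ ⟨u, hT hu⟩ ∈ centralizerIn T' (imageAlong θ R) := by
      refine mem_centralizerIn'.2 ⟨(mem_preimageAlong.1 hu).2, ?_⟩
      rintro _ ⟨x, hx, rfl⟩
      have h1 := (h.factor.2.1 (x⁻¹ * (⟨u, hT hu⟩ * x * ⟨u, hT hu⟩⁻¹))).2 (by
        have h2 : (((⟨x, hx⟩ : R)⁻¹ * ((r * n : G) : MulAut R) ⟨x, hx⟩ : R) : Ω) ∈ Z :=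
          hak.2 ⟨x, hx⟩
        rw [Subgroup.coe_mul, InvMemClass.coe_inv, huv ⟨x, hx⟩] at h2
        exact h2)
      rw [map_mul, map_inv, inv_mul_eq_one, map_mul, map_mul, map_inv] at h1
      exact h1.symm
    have huR : u ∈ R := (mem_iff_of_ker h.factor hZR).1
      (centralizerIn_le_of_centric hRc hu')
    rw [Inn_eq]
    exact mem_autInducedBy_iff.2 ⟨u, huR, Subgroup.le_normalizer huR, huv⟩

/-- A good group exists at every member of the family. -/
theorem exists_goodAut [Finite S] [Fact p.Prime]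
    (h : IsCentralSetup F Z θ F' M' p) {P : Subgroup Ω} (hP : InH θ Z M' P) :
    ∃ A, h.GoodAut P A := by
  obtain ⟨hZP, hPT, hPc⟩ := hP
  have hPS := hPT.trans (preimageAlong_le θ T')
  have hsc := h.stronglyClosed
  obtain ⟨R, hconj, hR⟩ := exists_fullyNormalized (F := F) hPS
  obtain ⟨hRa, hRr⟩ := automized_receptive h.pgroup h.sat hR
  obtain ⟨ψ, hψ, -, hψP⟩ := exists_map_normalizerIn h.pgroup hRa hRr hconj
  have hPN : P ≤ normalizerIn S P := le_normalizerIn hPS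
  obtain ⟨e, he, hev⟩ := exists_iso (restrict_mem hψ hPN) ((range_restrictHom ψ hPN).trans hψP)
  have hRT : R ≤ preimageAlong θ T' := by
    rw [← hψP]
    rintro _ ⟨x, hx, rfl⟩
    exact stronglyClosed_apply hsc hψ (hPT hx)
  have hZR : Z ≤ R := fun z hz =>
    (show (e ⟨z, hZP hz⟩ : Ω) = z from
      apply_eq_of_central h.central he (x := ⟨z, hZP hz⟩) hz) ▸ (e ⟨z, hZP hz⟩).2
  have := h.finite'
  obtain ⟨e', he', -⟩ := exists_image_iso h.pgroup h.sat h.central h.factor hZP he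
  have hRH : InH θ Z M' R :=
    ⟨hZR, hRT, isCentric_of_isConj_big h.invariant hPc (h.image_le' hRT) he'.isConj⟩
  obtain ⟨A, hA1, hA2, hA3⟩ := h.exists_goodAut_fullyNormalized hRH hR
  have := finite_of_le hPS
  have := finite_of_le hR.1
  refine ⟨A.comap (MulAut.congr e).toMonoidHom, fun γ hγ hc => hA1 _
    (h.congr_mem_over hZP hPT hRT he hγ) (hc.coprime_dvd_left
      (orderOf_map_dvd (MulAut.congr e).toMonoidHom γ)), ?_, fun _ a ha hak => ?_⟩
  · intro γ hγ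
    refine hA2 ?_
    obtain ⟨t, ht, htN, htv⟩ := mem_autInducedBy_iff.1 hγ
    have htS : t ∈ normalizerIn S P := ⟨preimageAlong_le θ T' ht, htN⟩
    refine mem_autInducedBy_iff.2 ⟨ψ ⟨t, htS⟩, stronglyClosed_apply hsc hψ ht, ?_, fun y => ?_⟩
    · have h1 := map_mem_normalizer (ψ := ψ) hPN (g := ⟨t, htS⟩) htN
      rwa [hψP] at h1
    · obtain ⟨x, rfl⟩ := e.surjective y
      show (MulAut.congr e γ (e x) : Ω) = _
      rw [congr_apply, hev, hev]
      show ψ _ = _ * ψ _ * _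
      rw [← map_inv, ← map_mul, ← map_mul]
      exact congrArg ψ (Subtype.ext (htv x))
  · have h1 : MulAut.congr e a ∈ Inn R :=
      hA3 hR.1 _ ha (conj_mem_kerAut h.central he hak)
    rw [Inn_eq] at h1 ⊢
    obtain ⟨r, hr, hrN, hrv⟩ := mem_autInducedBy_iff.1 h1
    obtain ⟨q, hq⟩ := e.surjective ⟨r, hr⟩
    refine mem_autInducedBy_iff.2 ⟨q, q.2, Subgroup.le_normalizer q.2, fun x => ?_⟩
    have h2 : e (a x) = e (q * x * q⁻¹) := by
      refine Subtype.ext ?_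
      rw [← congr_apply, hrv, map_mul, map_mul, map_inv, hq]
      rfl
    exact congrArg Subtype.val (e.injective h2)

end IsCentralSetup

end CfsgLib.FusionLayer
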