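/-
Every map of the subsystem `M'` of the central quotient lifts to a map of the lifted system.
-/
import Cfsg.Agent.FusionLayer.Lift.Automizer
import Cfsg.Agent.FusionSub.Generation

set_option autoImplicit false

namespace CfsgLib.FusionLayer

open Cfsg Cfsg.FusionSystem CfsgLib.Fusion
open CfsgLib.FusionFactor (mem_preimageAlong preimageAlong_le)

variable {Ω : Type*} [Group Ω] {S : Subgroup Ω} {Ω' : Type*} [Group Ω'] {S' : Subgroup Ω'}
  {F : FusionSystem S} {F' : FusionSystem S'} {θ : S →* Ω'} {Z : Subgroup Ω}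
  {T' : Subgroup Ω'} {M' : FusionSystem T'} {p : ℕ}

namespace IsCentralSetup

/-- The lifted system surjects onto `M'`. -/
theorem exists_lift [Finite S] [Fact p.Prime] (h : IsCentralSetup F Z θ F' M' p)
    {P' : Subgroup Ω'} {φ' : P' →* Ω'} (hφ' : φ' ∈ M'.Hom P') :
    ∃ φ ∈ (liftSystem F p θ Z M').Hom (preimageAlong θ P'), InducedAlong θ φ φ' := by
  have := h.finite'
  have := h.finiteT'
  obtain ⟨L, hLdef⟩ : ∃ L, L = liftSystem F p θ Z M' := ⟨_, rfl⟩
  rw [← hLdef]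
  have hLF : L.IsSubsystemOf F := hLdef ▸ liftSystem_isSubsystemOf
  let D : FusionSystem T' :=
    { Hom := fun Q => {ψ | ψ ∈ M'.Hom Q ∧ ∃ φ ∈ L.Hom (preimageAlong θ Q), InducedAlong θ φ ψ}
      le_of_mem := fun hψ => M'.le_of_mem hψ.1
      injective_of_mem := fun hψ => M'.injective_of_mem hψ.1
      conj_mem := by
        intro Q g hQ hg
        obtain ⟨s, rfl⟩ := h.factor.2.2.1.ge (h.le' hg)
        have hsT : (s : Ω) ∈ preimageAlong θ T' := mem_preimageAlong.2 ⟨s.2, hg⟩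
        refine ⟨M'.conj_mem hQ hg, conjHom _ (s : Ω), L.conj_mem (fun x hx => ?_) hsT,
          preimageAlong_le θ Q, fun x => S.mul_mem (S.mul_mem s.2 (preimageAlong_le θ Q x.2))
            (S.inv_mem s.2), fun x => (mem_preimageAlong.1 x.2).2, fun x => ?_⟩
        · obtain ⟨hxS, hxQ⟩ := mem_preimageAlong.1 hx
          exact mem_preimageAlong.2 ⟨hxS, hQ hxQ⟩
        · show θ s * θ ⟨x, preimageAlong_le θ Q x.2⟩ * (θ s)⁻¹ = _
          rw [← map_inv, ← map_mul, ← map_mul]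
          rfl
      comp_mem := by
        rintro P Q φ₀ ψ₀ ⟨hφ₀, φ, hφ, hind⟩ ⟨hψ₀, ψ, hψ, hind'⟩ hh
        have hPS := preimageAlong_le θ P
        have hmem : ∀ x : preimageAlong θ P, φ x ∈ preimageAlong θ Q := fun x => by
          obtain ⟨hm, he⟩ := induced_value hind ⟨x, hPS x.2⟩ x.2 (mem_preimageAlong.1 x.2).2
          exact mem_preimageAlong.2 ⟨hm, he ▸ hh _⟩
        refine ⟨M'.comp_mem hφ₀ hψ₀ hh, _, L.comp_mem hφ hψ hmem, hPS,
          fun x => apply_mem (hLF _ hψ) _, fun x => (mem_preimageAlong.1 x.2).2, fun x => ?_⟩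
        obtain ⟨hm, he⟩ := induced_value hind ⟨x, hPS x.2⟩ x.2 (mem_preimageAlong.1 x.2).2
        obtain ⟨hm', he'⟩ := induced_value hind' ⟨φ x, hm⟩ (hmem x)
          (mem_preimageAlong.1 (hmem x)).2
        exact (congrArg ψ₀ (Subtype.ext he)).trans he'
      inv_mem := by
        rintro P φ₀ ⟨hφ₀, φ, hφ, hind⟩
        obtain ⟨ψ₀, hψ₀, hψ₀v⟩ := M'.inv_mem hφ₀
        obtain ⟨ψ, hψ, hψv⟩ := L.inv_mem hφ
        have hPS := preimageAlong_le θ P
        have hle : preimageAlong θ φ₀.range ≤ φ.range := by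
          intro y hy
          obtain ⟨hyS, y₀, hy₀⟩ := mem_preimageAlong.1 hy
          obtain ⟨s, hs⟩ : (y₀ : Ω') ∈ θ.range :=
            h.factor.2.2.1.symm ▸ h.le' (le_left hφ₀ y₀.2)
          have hsP : (s : Ω) ∈ preimageAlong θ P :=
            mem_preimageAlong.2 ⟨s.2, by rw [Subtype.coe_eta, hs]; exact y₀.2⟩
          obtain ⟨hm, he⟩ := induced_value hind s hsP (by rw [hs]; exact y₀.2)
          have h1 : θ ⟨φ ⟨s, hsP⟩, hm⟩ = θ ⟨y, hyS⟩ := by
            rw [← he, ← hy₀]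
            exact congrArg φ₀ (Subtype.ext hs)
          have h2 : ((φ ⟨s, hsP⟩)⁻¹ * y : Ω) ∈ Z :=
            (h.factor.2.1 (⟨φ ⟨s, hsP⟩, hm⟩⁻¹ * ⟨y, hyS⟩)).1
              (by rw [map_mul, map_inv, h1, inv_mul_cancel])
          have hZP : Z ≤ preimageAlong θ P := FusionSolvable.le_preimage h.factor P
          refine ⟨⟨s, hsP⟩ * ⟨_, hZP h2⟩, ?_⟩
          rw [map_mul, apply_eq_of_central h.central (hLF _ hφ) (x := ⟨_, hZP h2⟩) h2,
            mul_inv_cancel_left]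
        refine ⟨ψ₀, ⟨hψ₀, restrictHom ψ hle, restrict_mem hψ hle, preimageAlong_le θ _,
          fun y => apply_mem (hLF _ hψ) _, fun y => (mem_preimageAlong.1 y.2).2, ?_⟩, hψ₀v⟩
        rintro ⟨y, hy⟩
        obtain ⟨x, rfl⟩ := hle hy
        obtain ⟨hm, he⟩ := induced_value hind ⟨x, hPS x.2⟩ x.2 (mem_preimageAlong.1 x.2).2
        refine ((congrArg ψ₀ (Subtype.ext he.symm)).trans (hψ₀v _)).trans ?_
        exact congrArg θ (Subtype.ext (hψv x).symm) }
  suffices hle : M' ≤ D from (hle P' hφ').2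
  have hT'p : IsPGroup p T' := h.pgroup'.to_le h.le'
  refine FusionSub.le_of_autGroups hT'p h.normal.1.1 D fun Q' hQn hQc _ => ?_
  obtain ⟨hQa, -⟩ := automized_receptive hT'p h.normal.1.1 hQn
  obtain ⟨R, hR⟩ := hQa.2
  have hQT := hQn.1
  have := finite_of_le (hQT.trans h.le')
  have : Finite (MulAut Q') := Finite.of_injective (fun f : MulAut Q' => (f : Q' → Q'))
    DFunLike.coe_injective
  have htop := congrArg (Subgroup.map (M'.autGroup Q').subtype)
    (CfsgLib.Transfer.sylow_sup_pResidual R)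
  rw [Subgroup.map_sup, ← MonoidHom.range_eq_map, Subgroup.range_subtype] at htop
  refine htop.ge.trans (sup_le ?_ ?_)
  · rw [hR, Subgroup.subgroupOf_map_subtype]
    exact inf_le_left.trans (autInducedBy_le_autGroup hQT)
  rw [pResidual, MonoidHom.map_closure, Subgroup.closure_le]
  rintro _ ⟨β, hβ, rfl⟩
  have hβc : (orderOf (β : MulAut Q')).Coprime p := by rwa [Subgroup.orderOf_coe]
  obtain ⟨φ, hφ, hind⟩ := exists_over_lift h.factor h.invariant.1
    ((mem_autGroup_iff hQT).1 β.2)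
  obtain ⟨Q, hQdef⟩ : ∃ Q, Q = preimageAlong θ Q' := ⟨_, rfl⟩
  subst hQdef
  have hQS := preimageAlong_le θ Q'
  have := finite_of_le hQS
  have hQH : InH θ Z M' (preimageAlong θ Q') := by
    refine ⟨FusionSolvable.le_preimage h.factor Q', fun x hx => ?_,
      (image_preimageAlong h.factor (hQT.trans h.le')).symm ▸ hQc⟩
    obtain ⟨hxS, hxQ⟩ := mem_preimageAlong.1 hx
    exact mem_preimageAlong.2 ⟨hxS, hQT hxQ⟩
  obtain ⟨γ, hγ, hγv⟩ := exists_iso hφ (Q := preimageAlong θ Q') (by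
    refine Subgroup.eq_of_le_of_card_ge ?_ (by
      rw [← imgHom_self, card_imgHom ((overSystem F θ M').injective_of_mem hφ) le_rfl])
    rintro _ ⟨x, rfl⟩
    obtain ⟨hm, he⟩ := induced_value hind ⟨x, hQS x.2⟩ x.2 (mem_preimageAlong.1 x.2).2
    exact mem_preimageAlong.2 ⟨hm, he ▸ ((β : MulAut Q') _).2⟩)
  have : Finite (MulAut ↥(preimageAlong θ Q')) := Finite.of_injective
    (fun f : MulAut ↥(preimageAlong θ Q') => (f : preimageAlong θ Q' → preimageAlong θ Q'))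
    DFunLike.coe_injective
  obtain ⟨k, hk, hβk⟩ := exists_coprime_pow hβc (γ : MulAut ↥(preimageAlong θ Q'))
  have hpow : ∀ (n : ℕ) (x : preimageAlong θ Q'),
      θ ⟨((γ ^ n) x : preimageAlong θ Q'), hQS (Subtype.mem _)⟩ =
        ((((β : MulAut Q') ^ n) ⟨θ ⟨x, hQS x.2⟩, (mem_preimageAlong.1 x.2).2⟩ : Q') : Ω') := by
    intro n
    induction n with
    | zero => exact fun x => rfl
    | succ n ih =>
      intro x
      obtain ⟨hm, he⟩ := induced_value hind ⟨x, hQS x.2⟩ x.2 (mem_preimageAlong.1 x.2).2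
      simp only [pow_succ, MulAut.mul_apply]
      rw [ih (γ x)]
      refine congrArg (fun w : Q' => ((((β : MulAut Q') ^ n) w : Q') : Ω')) (Subtype.ext ?_)
      exact (congrArg θ (Subtype.ext (hγv x))).trans he.symm
  have hmem : (γ : MulAut ↥(preimageAlong θ Q')) ^ k ∈
      L.autGroup (preimageAlong θ Q') :=
    hLdef ▸ isGen_liftSystem _ hQH _ (pow_mem hγ.mem_autGroup k) hk
  refine IsIso.mem_autGroup ⟨(mem_autGroup_iff hQT).1 β.2, _,
    (mem_autGroup_iff hQH.2.1).1 hmem, hQS, fun x => hQS (Subtype.mem _),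
    fun x => (mem_preimageAlong.1 x.2).2, fun x => ?_⟩
  refine Eq.trans ?_ (hpow k x).symm
  rw [hβk]
  rfl

/-- The isomorphism of an automorphism lift: an automorphism of `M'` lifts to the lifted system. -/
theorem exists_lift_aut [Finite S] [Fact p.Prime] (h : IsCentralSetup F Z θ F' M' p)
    {P : Subgroup Ω} (hZP : Z ≤ P) (hPT : P ≤ preimageAlong θ T') {β : MulAut (imageAlong θ P)}
    (hβ : β ∈ M'.autGroup (imageAlong θ P)) :
    ∃ γ ∈ (liftSystem F p θ Z M').autGroup P, ∀ (x : S) (hx : (x : Ω) ∈ P)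
      (h' : θ x ∈ imageAlong θ P) (hm : (γ ⟨x, hx⟩ : Ω) ∈ S),
      (β ⟨θ x, h'⟩ : Ω') = θ ⟨γ ⟨x, hx⟩, hm⟩ := by
  have hPS := hPT.trans (preimageAlong_le θ T')
  obtain ⟨φ, hφ, hind⟩ := h.exists_lift ((mem_autGroup_iff (h.image_le' hPT)).1 hβ)
  have e := preimage_imageAlong h.factor hZP hPS
  have := finite_of_le hPS
  obtain ⟨γ, hγ, hγv⟩ := exists_iso (restrict_mem hφ e.ge) (Q := P) (by
    refine Subgroup.eq_of_le_of_card_ge ?_ (by
      rw [← imgHom_self, card_imgHom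
        ((liftSystem F p θ Z M').injective_of_mem (restrict_mem hφ e.ge)) le_rfl])
    rintro _ ⟨x, rfl⟩
    obtain ⟨hm, he⟩ := induced_value hind ⟨x, hPS x.2⟩ (e.ge x.2) ⟨_, x.2, rfl⟩
    refine (mem_iff_of_ker h.factor hZP (s := ⟨_, hm⟩)).1 ?_
    rw [show θ ⟨_, hm⟩ = ((β ⟨θ ⟨x, hPS x.2⟩, ⟨_, x.2, rfl⟩⟩ : imageAlong θ P) : Ω') from he.symm]
    exact Subtype.mem _)
  refine ⟨γ, hγ.mem_autGroup, fun x hx h' hm => ?_⟩
  obtain ⟨hm', he⟩ := induced_value hind x (e.ge hx) h'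
  exact he.trans (congrArg θ (Subtype.ext (hγv ⟨x, hx⟩).symm))

end IsCentralSetup

end CfsgLib.FusionLayer
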