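/-
Automorphisms in the lifted system that are trivial modulo the centre are inner.
-/
import Cfsg.Agent.FusionLayer.Lift.Surjective
import Cfsg.Agent.WeakClosed.Normalizer

set_option autoImplicit false

namespace CfsgLib.FusionLayer

open Cfsg Cfsg.FusionSystem CfsgLib.Fusion
open CfsgLib.FusionFactor (mem_preimageAlong preimageAlong_le)

variable {Ω : Type*} [Group Ω] {S : Subgroup Ω} {Ω' : Type*} [Group Ω'] {S' : Subgroup Ω'}
  {F : FusionSystem S} {F' : FusionSystem S'} {θ : S →* Ω'} {Z : Subgroup Ω}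
  {T' : Subgroup Ω'} {M' : FusionSystem T'} {p : ℕ}

/-- The image of a subgroup containing `Z` under a lift is the full preimage of its image. -/
theorem imgHom_lift (hZ : F.IsCentral Z) (h : F.IsFactorSystem Z θ F') {W : Subgroup Ω}
    {φ : W →* Ω} (hφ : φ ∈ F.Hom W) {W' : Subgroup Ω'} {φ' : W' →* Ω'}
    (hind : InducedAlong θ φ φ') {P : Subgroup Ω} (hZP : Z ≤ P) (hPW : P ≤ W) :
    imgHom φ P = preimageAlong θ (imgHom φ' (imageAlong θ P)) := by
  have hWS := le_left hφ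
  have hW' : ∀ x : W, θ ⟨x, hWS x.2⟩ ∈ W' := hind.2.2.1
  ext y
  constructor
  · rintro ⟨x, hx, rfl⟩
    obtain ⟨hm, he⟩ := induced_value hind ⟨x, hWS x.2⟩ x.2 (hW' x)
    exact mem_preimageAlong.2 ⟨hm, ⟨_, hW' x⟩, ⟨_, hx, rfl⟩, he⟩
  · intro hy
    obtain ⟨hyS, w, ⟨s, hs, hsw⟩, hwy⟩ := mem_preimageAlong.1 hy
    have hsW : (s : Ω) ∈ W := hPW hs
    obtain ⟨hm, he⟩ := induced_value hind s hsW (hW' ⟨s, hsW⟩)
    have h1 : θ ⟨φ ⟨s, hsW⟩, hm⟩ = θ ⟨y, hyS⟩ := by
      rw [← he, ← hwy]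
      exact congrArg φ' (Subtype.ext hsw)
    have h2 : ((φ ⟨s, hsW⟩)⁻¹ * y : Ω) ∈ Z := (h.2.1 (⟨φ ⟨s, hsW⟩, hm⟩⁻¹ * ⟨y, hyS⟩)).1
      (by rw [map_mul, map_inv, h1, inv_mul_cancel])
    refine ⟨⟨s, hsW⟩ * ⟨_, hPW (hZP h2)⟩, P.mul_mem (Subgroup.mem_subgroupOf.1 hs) (hZP h2), ?_⟩
    rw [map_mul, apply_eq_of_central hZ hφ (x := ⟨_, hPW (hZP h2)⟩) h2, mul_inv_cancel_left]

/-- An automorphism is inner as soon as its transport is. -/
theorem inn_of_congr {P R : Subgroup Ω} (e : P ≃* R) {a : MulAut P}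
    (h : MulAut.congr e a ∈ Inn R) : a ∈ Inn P := by
  rw [Inn_eq] at h ⊢
  obtain ⟨r, hr, -, hrv⟩ := mem_autInducedBy_iff.1 h
  obtain ⟨q, hq⟩ := e.surjective ⟨r, hr⟩
  refine mem_autInducedBy_iff.2 ⟨q, q.2, Subgroup.le_normalizer q.2, fun x => ?_⟩
  have h2 : e (a x) = e (q * x * q⁻¹) := by
    refine Subtype.ext ?_
    rw [← congr_apply, hrv, map_mul, map_mul, map_inv, hq]
    rfl
  exact congrArg Subtype.val (e.injective h2)

namespace IsCentralSetup

/-- The representative with fully normalized image, and the map carrying the normalizer to it. -/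
theorem exists_to [Finite S] [Fact p.Prime] (h : IsCentralSetup F Z θ F' M' p) {P : Subgroup Ω}
    (hZP : Z ≤ P) (hPT : P ≤ preimageAlong θ T') {R' : Subgroup Ω'}
    (hR' : M'.IsFullyNormalized R') (hconj : M'.IsConj (imageAlong θ P) R') :
    ∃ τ ∈ (liftSystem F p θ Z M').Hom (normalizerIn (preimageAlong θ T') P),
      (∀ x, τ x ∈ normalizerIn (preimageAlong θ T') (preimageAlong θ R')) ∧
      imgHom τ P = preimageAlong θ R' := by
  have := h.finite'
  have := h.finiteT'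
  obtain ⟨ha, hr⟩ := automized_receptive (h.pgroup'.to_le h.le') h.normal.1.1 hR'
  obtain ⟨χ, hχ, -, hχP⟩ := exists_map_normalizerIn (h.pgroup'.to_le h.le') ha hr hconj
  obtain ⟨φ, hφ, hind⟩ := h.exists_lift hχ
  have hT := preimageAlong_le θ T'
  have hle : normalizerIn (preimageAlong θ T') P ≤
      preimageAlong θ (normalizerIn T' (imageAlong θ P)) := by
    rintro x ⟨hx, hxN⟩
    exact mem_preimageAlong.2 ⟨hT hx, (mem_preimageAlong.1 hx).2,
      (mem_normalizer_image_iff h.factor hZP (hPT.trans hT)).2 hxN⟩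
  have hPN : P ≤ normalizerIn (preimageAlong θ T') P := le_normalizerIn hPT
  have himg : imgHom (restrictHom φ hle) P = preimageAlong θ R' := by
    rw [SatCriterion.imgHom_congr (ψ := φ) hPN (hPN.trans hle) fun x hx => rfl,
      imgHom_lift h.central h.factor (liftSystem_isSubsystemOf _ hφ) hind hZP (hPN.trans hle), hχP]
  refine ⟨_, restrict_mem hφ hle, fun x => ⟨apply_mem (restrict_mem hφ hle) x, ?_⟩, himg⟩
  have h1 := map_mem_normalizer (ψ := restrictHom φ hle) hPN (g := x) x.2.2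
  rwa [himg] at h1

/-- A map of the lifted system on a larger subgroup fixing `R` restricts to `R` inside a good
group. -/
theorem exists_mem_of_fix [Finite S] [Fact p.Prime] (h : IsCentralSetup F Z θ F' M' p)
    {R : Subgroup Ω} (hR : InH θ Z M' R) (hRn : M'.IsFullyNormalized (imageAlong θ R))
    {A : Subgroup (MulAut R)} (hA : h.GoodAut R A)
    (IH : ∀ (X : Subgroup Ω) (hX : X ≤ S), InH θ Z M' X → Nat.card R < Nat.card X →
      ∀ a ∈ (liftSystem F p θ Z M').autGroup X, a ∈ kerAut h.central hX → a ∈ Inn X)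
    {X : Subgroup Ω} (hRX : R < X) (hXN : X ≤ normalizerIn (preimageAlong θ T') R)
    {f : X →* Ω} (hf : f ∈ (liftSystem F p θ Z M').Hom X) (hfR : imgHom f R = R) :
    ∃ a ∈ A, ∀ x : R, (a x : Ω) = f (Subgroup.inclusion hRX.le x) := by
  obtain ⟨hZR, hRT, hRc⟩ := hR
  have := h.finite'
  have := h.finiteT'
  have hT'p : IsPGroup p T' := h.pgroup'.to_le h.le'
  have hT := preimageAlong_le θ T'
  have hRS := hRT.trans hT
  obtain ⟨L, hLdef⟩ : ∃ L, L = liftSystem F p θ Z M' := ⟨_, rfl⟩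
  rw [← hLdef] at hf IH
  have hLF : L.IsSubsystemOf F := hLdef ▸ liftSystem_isSubsystemOf
  have := finite_of_le hRS
  obtain ⟨E, hE⟩ := exists_isNormalizerSystem M' (Q := imageAlong θ R) hRn.1
  have hEs := isSaturated_normalizerSystem hT'p h.normal.1.1 hRn hE
  have hEn := WeakClosed.normSystem_isNormal hRn.1 hE
  have himgR : ∀ {Q : Subgroup Ω'}, Q ≤ normalizerIn T' (imageAlong θ R) →
      preimageAlong θ Q ⊔ R ≤ preimageAlong θ T' := fun {Q} hQ => sup_le (fun x hx => by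
    obtain ⟨hxS, hxQ⟩ := mem_preimageAlong.1 hx
    exact mem_preimageAlong.2 ⟨hxS, (hQ hxQ).1⟩) hRT
  let D : FusionSystem (normalizerIn T' (imageAlong θ R)) :=
    { Hom := fun Q => {ψ | ψ ∈ E.Hom Q ∧ ∃ φ ∈ L.Hom (preimageAlong θ Q ⊔ R),
        (∀ (s : S) (hs : θ s ∈ Q), ∃ hm : φ ⟨s, Subgroup.mem_sup_left
            (mem_preimageAlong.2 ⟨s.2, hs⟩)⟩ ∈ S, ψ ⟨θ s, hs⟩ = θ ⟨_, hm⟩) ∧
        ∃ a ∈ A, ∀ x : R, φ ⟨x, Subgroup.mem_sup_right x.2⟩ = (a x : Ω)}
      le_of_mem := fun hψ => E.le_of_mem hψ.1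
      injective_of_mem := fun hψ => E.injective_of_mem hψ.1
      conj_mem := by
        intro Q g hQ hg
        obtain ⟨t, rfl⟩ := h.factor.2.2.1.ge (h.le' hg.1)
        have htT : (t : Ω) ∈ preimageAlong θ T' := mem_preimageAlong.2 ⟨t.2, hg.1⟩
        have htN : (t : Ω) ∈ Subgroup.normalizer (R : Set Ω) :=
          (mem_normalizer_image_iff h.factor hZR hRS).1 hg.2
        refine ⟨E.conj_mem hQ hg, conjHom _ (t : Ω), L.conj_mem (himgR hQ) htT,
          fun s hs => ⟨S.mul_mem (S.mul_mem t.2 s.2) (S.inv_mem t.2), ?_⟩,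
          R.normalizerMonoidHom ⟨t, htN⟩, hA.2.1 (mem_autInducedBy_iff.2
            ⟨t, htT, htN, fun _ => rfl⟩), fun x => rfl⟩
        show θ t * θ s * (θ t)⁻¹ = _
        rw [← map_inv, ← map_mul, ← map_mul]
        rfl
      comp_mem := by
        rintro P Q φ₀ ψ₀ ⟨hφ₀, φ, hφ, hφv, a, ha, hav⟩ ⟨hψ₀, ψ, hψ, hψv, b, hb, hbv⟩ hh
        have hmem : ∀ x, φ x ∈ preimageAlong θ Q ⊔ R := by
          intro x
          have hle : imgHom φ (preimageAlong θ P ⊔ R) ≤ preimageAlong θ Q ⊔ R := by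
            rw [imgHom_sup φ le_sup_left le_sup_right]
            refine sup_le_sup ?_ ?_
            · rintro _ ⟨⟨y, hy'⟩, hy, rfl⟩
              obtain ⟨hyS, hyP⟩ := mem_preimageAlong.1 hy
              obtain ⟨hm, he⟩ := hφv ⟨y, hyS⟩ hyP
              exact mem_preimageAlong.2 ⟨hm, he ▸ hh _⟩
            · rintro _ ⟨⟨y, hy'⟩, hy, rfl⟩
              rw [hav ⟨y, hy⟩]
              exact (a _).2
          exact hle ⟨x, x.2, rfl⟩
        refine ⟨E.comp_mem hφ₀ hψ₀ hh, _, L.comp_mem hφ hψ hmem, fun s hs => ?_,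
          b * a, A.mul_mem hb ha, fun x => ?_⟩
        · obtain ⟨hm, he⟩ := hφv s hs
          obtain ⟨hm', he'⟩ := hψv ⟨_, hm⟩ (he ▸ hh _)
          refine ⟨hm', ?_⟩
          exact (congrArg ψ₀ (Subtype.ext he)).trans he'
        · show ψ ⟨φ _, _⟩ = _
          exact (congrArg ψ (Subtype.ext (hav x))).trans (hbv (a x))
      inv_mem := by
        rintro P φ₀ ⟨hφ₀, φ, hφ, hφv, a, ha, hav⟩
        obtain ⟨ψ₀, hψ₀, hψ₀v⟩ := E.inv_mem hφ₀
        obtain ⟨ψ, hψ, hψv⟩ := L.inv_mem hφ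
        have hWS := (himgR (le_left hφ₀)).trans hT
        have hR₂ : ∀ x : R, φ ⟨(a⁻¹ x : R), Subgroup.mem_sup_right (a⁻¹ x).2⟩ = x := fun x => by
          rw [hav, MulAut.apply_inv_self]
        have hle : preimageAlong θ φ₀.range ⊔ R ≤ φ.range := by
          refine sup_le (fun y hy => ?_) fun y hy => ⟨_, hR₂ ⟨y, hy⟩⟩
          obtain ⟨hyS, y₀, hy₀⟩ := mem_preimageAlong.1 hy
          obtain ⟨s, hs⟩ : (y₀ : Ω') ∈ θ.range :=
            h.factor.2.2.1.symm ▸ h.le' (le_left hφ₀ y₀.2).1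
          obtain ⟨hm, he⟩ := hφv s (hs.symm ▸ y₀.2)
          have h2 : (φ ⟨s, Subgroup.mem_sup_left (mem_preimageAlong.2 ⟨s.2, hs.symm ▸ y₀.2⟩)⟩)⁻¹ *
              y ∈ Z := (h.factor.2.1 (⟨_, hm⟩⁻¹ * ⟨y, hyS⟩)).1 (by
            rw [map_mul, map_inv, ← he, ← hy₀, inv_mul_eq_one]
            exact congrArg φ₀ (Subtype.ext hs))
          refine ⟨⟨s, Subgroup.mem_sup_left (mem_preimageAlong.2 ⟨s.2, hs.symm ▸ y₀.2⟩)⟩ *
            ⟨_, Subgroup.mem_sup_right (hZR h2)⟩, ?_⟩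
          rw [map_mul, apply_eq_of_central h.central (hLF _ hφ)
            (x := ⟨_, Subgroup.mem_sup_right (hZR h2)⟩) h2, mul_inv_cancel_left]
        refine ⟨ψ₀, ⟨hψ₀, restrictHom ψ hle, restrict_mem hψ hle, fun s hs => ?_,
          a⁻¹, A.inv_mem ha, fun x => ?_⟩, hψ₀v⟩
        · obtain ⟨w, hw⟩ := hle (Subgroup.mem_sup_left (mem_preimageAlong.2 ⟨s.2, hs⟩))
          refine ⟨apply_mem (hLF _ hψ) _, ?_⟩
          obtain ⟨y₀, hy₀⟩ := hs
          obtain ⟨s', hs'⟩ : (y₀ : Ω') ∈ θ.range :=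
            h.factor.2.2.1.symm ▸ h.le' (le_left hφ₀ y₀.2).1
          obtain ⟨hm, he⟩ := hφv s' (hs'.symm ▸ y₀.2)
          have hwS : (w : Ω) ∈ S := hWS w.2
          have hval : restrictHom ψ hle ⟨s, Subgroup.mem_sup_left (mem_preimageAlong.2
              ⟨s.2, ⟨y₀, hy₀⟩⟩)⟩ = (w : Ω) := by
            rw [restrictHom_apply]
            exact (congrArg ψ (Subtype.ext hw.symm)).trans (hψv w)
          -- the point `w` lies over `y₀`
          have h2 : ((s' : Ω))⁻¹ * w ∈ Z := by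
            let w' : ↥(preimageAlong θ P ⊔ R) :=
              ⟨s', Subgroup.mem_sup_left (mem_preimageAlong.2 ⟨s'.2, hs'.symm ▸ y₀.2⟩)⟩
            have h3 : (φ (w'⁻¹ * w) : Ω) ∈ Z := by
              rw [map_mul, map_inv, hw]
              exact (h.factor.2.1 (⟨_, hm⟩⁻¹ * s)).1 (by
                rw [map_mul, map_inv, ← he, ← hy₀, inv_mul_eq_one]
                exact congrArg φ₀ (Subtype.ext hs'))
            obtain ⟨u, hu, huv⟩ : ∃ u : ↥(preimageAlong θ P ⊔ R), (u : Ω) ∈ Z ∧ φ u = φ (w'⁻¹ * w) :=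
              ⟨⟨_, Subgroup.mem_sup_right (hZR h3)⟩, h3,
                apply_eq_of_central h.central (hLF _ hφ) h3⟩
            have := (L.injective_of_mem hφ huv)
            rw [this] at hu
            exact hu
          have h4 : θ ⟨w, hwS⟩ = θ s' := by
            have := (h.factor.2.1 (s'⁻¹ * ⟨w, hwS⟩)).2 h2
            rw [map_mul, map_inv, inv_mul_eq_one] at this
            exact this.symm
          calc ψ₀ ⟨θ s, _⟩ = ψ₀ ⟨φ₀ y₀, y₀, rfl⟩ := congrArg ψ₀ (Subtype.ext hy₀.symm)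
            _ = y₀ := hψ₀v y₀
            _ = θ ⟨w, hwS⟩ := hs'.symm.trans h4.symm
            _ = _ := congrArg θ (Subtype.ext hval.symm)
        · rw [restrictHom_apply]
          refine Eq.trans ?_ (hψv ⟨(a⁻¹ x : R), Subgroup.mem_sup_right (a⁻¹ x).2⟩)
          exact congrArg ψ (Subtype.ext (hR₂ x).symm) }
  have hEp : IsPGroup p (normalizerIn T' (imageAlong θ R)) := hT'p.to_le (normalizerIn_le _ _)
  have := finite_of_le (normalizerIn_le T' (imageAlong θ R))
  have hED : E ≤ D := by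
    refine FusionSub.le_of_autGroups hEp hEs D fun Q' hQn hQc hQr => ?_
    have hRQ : imageAlong θ R ≤ Q' := le_of_normal_of_radical hEp hEn hQc hQr
    obtain ⟨hQa, -⟩ := automized_receptive hEp hEs hQn
    obtain ⟨P₀, hP₀⟩ := hQa.2
    have hQN := hQn.1
    have hQT : Q' ≤ T' := hQN.trans (normalizerIn_le _ _)
    have := finite_of_le hQT
    have : Finite (MulAut Q') := Finite.of_injective (fun f : MulAut Q' => (f : Q' → Q'))
      DFunLike.coe_injective
    have htop := congrArg (Subgroup.map (E.autGroup Q').subtype)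
      (CfsgLib.Transfer.sylow_sup_pResidual P₀)
    rw [Subgroup.map_sup, ← MonoidHom.range_eq_map, Subgroup.range_subtype] at htop
    refine htop.ge.trans (sup_le ?_ ?_)
    · rw [hP₀, Subgroup.subgroupOf_map_subtype]
      exact inf_le_left.trans (autInducedBy_le_autGroup hQN)
    rw [pResidual, MonoidHom.map_closure, Subgroup.closure_le]
    rintro _ ⟨β, hβ, rfl⟩
    have hβc : (orderOf (β : MulAut Q')).Coprime p := by rwa [Subgroup.orderOf_coe]
    have hβI : IsIso E (β : MulAut Q') := (mem_autGroup_iff hQN).1 β.2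
    have hQH : InH θ Z M' (preimageAlong θ Q') := by
      refine ⟨FusionSolvable.le_preimage h.factor Q', fun x hx => ?_, ?_⟩
      · obtain ⟨hxS, hxQ⟩ := mem_preimageAlong.1 hx
        exact mem_preimageAlong.2 ⟨hxS, hQT hxQ⟩
      · rw [image_preimageAlong h.factor (hQT.trans h.le')]
        exact isCentric_of_le hRc hRQ hQT
    have hRQ₂ : R ≤ preimageAlong θ Q' := fun x hx =>
      mem_preimageAlong.2 ⟨hRS hx, hRQ ⟨_, hx, rfl⟩⟩
    obtain ⟨φ, hφ, hind⟩ := h.exists_lift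
      (WeakClosed.normSystem_le hE Q' hβI)
    obtain ⟨γ, hγ, hγv⟩ := exists_iso hφ (Q := preimageAlong θ Q') (by
      have hQS := preimageAlong_le θ Q'
      have := finite_of_le hQS
      refine Subgroup.eq_of_le_of_card_ge ?_ (by
        rw [← imgHom_self,
          card_imgHom ((liftSystem F p θ Z M').injective_of_mem hφ) le_rfl])
      rintro _ ⟨x, rfl⟩
      obtain ⟨hm, he⟩ := induced_value hind ⟨x, hQS x.2⟩ x.2 (mem_preimageAlong.1 x.2).2
      exact mem_preimageAlong.2 ⟨hm, he ▸ ((β : MulAut Q') _).2⟩)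
    have hQS := preimageAlong_le θ Q'
    have := finite_of_le hQS
    have : Finite (MulAut ↥(preimageAlong θ Q')) := Finite.of_injective
      (fun f : MulAut ↥(preimageAlong θ Q') => (f : preimageAlong θ Q' → preimageAlong θ Q'))
      DFunLike.coe_injective
    obtain ⟨k, hk, hβk⟩ := exists_coprime_pow hβc (γ : MulAut ↥(preimageAlong θ Q'))
    have hpow : ∀ (n : ℕ) (x : preimageAlong θ Q'),
        θ ⟨((γ ^ n) x : preimageAlong θ Q'), hQS (Subtype.mem _)⟩ =
          ((((β : MulAut Q') ^ n) ⟨θ ⟨x, hQS x.2⟩, (mem_preimageAlong.1 x.2).2⟩ : Q') : Ω') := by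
      intro n
      induction n with
      | zero => exact fun x => rfl
      | succ n ih =>
        intro x
        obtain ⟨hm, he⟩ := induced_value hind ⟨x, hQS x.2⟩ x.2 (mem_preimageAlong.1 x.2).2
        simp only [pow_succ, MulAut.mul_apply]
        rw [ih (γ x)]
        refine congrArg (fun w : Q' => ((((β : MulAut Q') ^ n) w : Q') : Ω')) (Subtype.ext ?_)
        exact (congrArg θ (Subtype.ext (hγv x))).trans he.symm
    have hθβ : ∀ x : preimageAlong θ Q',
        θ ⟨((γ ^ k) x : preimageAlong θ Q'), hQS (Subtype.mem _)⟩ =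
          ((β : MulAut Q') ⟨θ ⟨x, hQS x.2⟩, (mem_preimageAlong.1 x.2).2⟩ : Ω') := fun x => by
      rw [hpow k x, hβk]
    have hγL : γ ^ k ∈ L.autGroup (preimageAlong θ Q') := hLdef ▸ pow_mem hγ.mem_autGroup k
    -- the restriction to `R`
    have := finite_of_le hT
    obtain ⟨g, hg, hgv⟩ := exists_restrict_aut hRQ₂ hQH.2.1 hγL fun x hx => by
      refine (mem_iff_of_ker h.factor hZR (s := ⟨_, hQS (((γ ^ k) x) : preimageAlong θ Q').2⟩)).1 ?_
      rw [hθβ]
      exact (stronglyClosed_aut_iff (stronglyClosed_of_normal hEn) β.2).2 ⟨_, hx, rfl⟩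
    have hgp : (orderOf g).Coprime p := by
      refine Nat.Coprime.of_dvd_left (orderOf_dvd_of_pow_eq_one ?_) hk
      refine MulEquiv.ext fun x => Subtype.ext ?_
      rw [pow_agree hRQ₂ hgv (orderOf (γ ^ k)) x, pow_orderOf_eq_one]
      rfl
    have hgA : g ∈ A := hA.1 g (IsIso.mem_autGroup
      (liftSystem_isSubsystemOf_over _ (hLdef ▸ (mem_autGroup_iff hRT).1 hg))) hgp
    refine IsIso.mem_autGroup ?_
    have hle : preimageAlong θ Q' ⊔ R ≤ preimageAlong θ Q' := sup_le le_rfl hRQ₂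
    refine ⟨hβI, restrictHom _ hle, restrict_mem ((mem_autGroup_iff hQH.2.1).1 hγL) hle,
      fun s hs => ⟨hQS (((γ ^ k) ⟨s, mem_preimageAlong.2 ⟨s.2, hs⟩⟩) : preimageAlong θ Q').2, ?_⟩,
      g, hgA, fun x => (hgv x).symm⟩
    exact (hθβ ⟨s, mem_preimageAlong.2 ⟨s.2, hs⟩⟩).symm
  -- the given map lies over a map of `E`
  have hXT : X ≤ preimageAlong θ T' := hXN.trans (normalizerIn_le _ _)
  have hXS := hXT.trans hT
  obtain ⟨hfF, φ', hφ', hind⟩ := liftSystem_isSubsystemOf_over _ (hLdef ▸ hf)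
  have hZX : Z ≤ X := hZR.trans hRX.le
  have hXimg : imageAlong θ X ≤ normalizerIn T' (imageAlong θ R) := by
    rintro _ ⟨x, hx, rfl⟩
    exact ⟨(mem_preimageAlong.1 (hXT hx)).2,
      (mem_normalizer_image_iff h.factor hZR hRS).2 (hXN hx).2⟩
  have hφ'R : imgHom φ' (imageAlong θ R) = imageAlong θ R := by
    have h1 := imgHom_lift h.central h.factor hfF hind hZR hRX.le
    rw [hfR] at h1
    have h3 : imgHom φ' (imageAlong θ R) ≤ S' := fun y hy => by
      obtain ⟨w, -, rfl⟩ := hy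
      exact h.le' (apply_mem hφ' w)
    conv_rhs => rw [h1, image_preimageAlong h.factor h3]
  have hφE : φ' ∈ E.Hom (imageAlong θ X) := by
    refine WeakClosed.mem_normSystem hE hφ' (Subgroup.map_mono fun _ hx => hRX.le hx) hXimg
      (fun w => ?_) hφ'R
    refine ⟨apply_mem hφ' w, ?_⟩
    have := map_mem_normalizer (ψ := φ')
      (Subgroup.map_mono fun _ hx => hRX.le hx : imageAlong θ R ≤ imageAlong θ X) (g := w)
      (hXimg w.2).2
    exact hφ'R ▸ this
  obtain ⟨-, φ, hφ, hφv, a, ha, hav⟩ := hED _ hφE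
  have hXW : X ≤ preimageAlong θ (imageAlong θ X) ⊔ R :=
    fun x hx => Subgroup.mem_sup_left (mem_preimageAlong.2 ⟨hXS hx, ⟨_, hx, rfl⟩⟩)
  have := finite_of_le hXS
  obtain ⟨e₁, he₁, he₁v⟩ := exists_iso_range hf
  obtain ⟨e₂, he₂, he₂v⟩ := exists_iso (restrict_mem hφ hXW) (Q := f.range) (by
    have hind₂ : InducedAlong θ (restrictHom φ hXW) φ' := ⟨hXS, fun x => apply_mem (hLF _ hφ) _,
      fun x => ⟨_, x.2, rfl⟩, fun x => (hφv ⟨x, hXS x.2⟩ ⟨_, x.2, rfl⟩).choose_spec⟩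
    rw [← imgHom_self, ← imgHom_self,
      imgHom_lift h.central h.factor (hLF _ (restrict_mem hφ hXW)) hind₂ hZX le_rfl,
      imgHom_lift h.central h.factor hfF hind hZX le_rfl])
  have hk : e₁.trans e₂.symm ∈ L.autGroup X := (he₁.trans he₂.symm).mem_autGroup
  have hkk : e₁.trans e₂.symm ∈ kerAut h.central hXS := by
    refine ⟨IsIso.mem_autGroup (hLF _ (he₁.trans he₂.symm)), fun x => ?_⟩
    have hXR : f.range ≤ S := range_le hfF
    have hz : ((e₂ x)⁻¹ * e₁ x : f.range).1 ∈ Z := by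
      refine (h.factor.2.1 (⟨(e₂ x : Ω), hXR (e₂ x).2⟩⁻¹ * ⟨(e₁ x : Ω), hXR (e₁ x).2⟩)).1 ?_
      rw [map_mul, map_inv, inv_mul_eq_one]
      obtain ⟨hm, he⟩ := induced_value hind ⟨x, hXS x.2⟩ x.2 ⟨_, x.2, rfl⟩
      obtain ⟨hm', he'⟩ := hφv ⟨x, hXS x.2⟩ ⟨_, x.2, rfl⟩
      exact ((congrArg θ (Subtype.ext (he₂v x))).trans he'.symm).trans
        (he.trans (congrArg θ (Subtype.ext (he₁v x).symm)))
    have h5 : (e₂.symm ((e₂ x)⁻¹ * e₁ x) : Ω) = ((e₂ x)⁻¹ * e₁ x : f.range).1 :=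
      apply_eq_of_central h.central (hLF _ he₂.symm) hz
    show ((x⁻¹ * e₂.symm (e₁ x) : X) : Ω) ∈ Z
    rw [show x⁻¹ * e₂.symm (e₁ x) = e₂.symm ((e₂ x)⁻¹ * e₁ x) by
      rw [map_mul, map_inv, MulEquiv.symm_apply_apply], h5]
    exact hz
  have hcard : Nat.card R < Nat.card X := card_lt_of_lt hRX hXS
  have hXH : InH θ Z M' X := InH.of_le ⟨hZR, hRT, hRc⟩ hRX.le hXT
  obtain ⟨x₀, hx₀, hx₀N, hx₀v⟩ :=
    mem_autInducedBy_iff.1 ((Inn_eq X).le (IH X hXS hXH hcard _ hk hkk))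
  have hxR : x₀ ∈ Subgroup.normalizer (R : Set Ω) := (hXN hx₀).2
  refine ⟨a * R.normalizerMonoidHom ⟨x₀, hxR⟩, A.mul_mem ha (hA.2.1
    (mem_autInducedBy_iff.2 ⟨x₀, hXT hx₀, hxR, fun _ => rfl⟩)), fun x => ?_⟩
  let r' : R := R.normalizerMonoidHom ⟨x₀, hxR⟩ x
  show (a r' : Ω) = _
  rw [← hav r', ← he₁v (Subgroup.inclusion hRX.le x),
    show e₁ (Subgroup.inclusion hRX.le x) = e₂ (Subgroup.inclusion hRX.le r') from ?_, he₂v]
  · rfl
  · refine (MulEquiv.symm_apply_eq e₂).1 (Subtype.ext ?_)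
    exact hx₀v (Subgroup.inclusion hRX.le x)

/-- Automorphisms in the lifted system lie in every good group, given the claim above. -/
theorem mem_of_liftSystem [Finite S] [Fact p.Prime] (h : IsCentralSetup F Z θ F' M' p)
    {R : Subgroup Ω} (hR : InH θ Z M' R) (hRn : M'.IsFullyNormalized (imageAlong θ R))
    {A : Subgroup (MulAut R)} (hA : h.GoodAut R A)
    (IH : ∀ (X : Subgroup Ω) (hX : X ≤ S), InH θ Z M' X → Nat.card R < Nat.card X →
      ∀ a ∈ (liftSystem F p θ Z M').autGroup X, a ∈ kerAut h.central hX → a ∈ Inn X) :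
    (liftSystem F p θ Z M').autGroup R ≤ A := by
  classical
  obtain ⟨hZR, hRT, hRc⟩ := hR
  have hT := preimageAlong_le θ T'
  have hRS := hRT.trans hT
  have := h.finite'
  have := h.finiteT'
  have := finite_of_le hRS
  have hTp : IsPGroup p (preimageAlong θ T') := h.pgroup.to_le hT
  have := finite_of_le hT
  obtain ⟨L, hLdef⟩ : ∃ L, L = liftSystem F p θ Z M' := ⟨_, rfl⟩
  rw [← hLdef]
  have hLF : L.IsSubsystemOf F := hLdef ▸ liftSystem_isSubsystemOf
  -- the conjugates of `R` and the maps carrying their normalizers to that of `R`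
  have hto : ∀ P, L.IsConj P R → ∃ τ ∈ L.Hom (normalizerIn (preimageAlong θ T') P),
      (∀ x, τ x ∈ normalizerIn (preimageAlong θ T') R) ∧ imgHom τ P = R ∧
      (P = R → ∀ x, τ x = (x : Ω)) := by
    intro P hP
    by_cases hPR : P = R
    · subst hPR
      have hN : normalizerIn (preimageAlong θ T') P ≤ preimageAlong θ T' := normalizerIn_le _ _
      exact ⟨_, subtype_mem hN, fun x => x.2,
        SatCriterion.imgHom_subtype (le_normalizerIn hRT), fun _ x => rfl⟩
    obtain ⟨φ, hφ, hr⟩ := hP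
    have hPT := le_left hφ
    have hZP : Z ≤ P := fun z hz => by
      obtain ⟨x, hx⟩ := hr.ge (hZR hz)
      obtain ⟨ψ, hψ, hψv⟩ := F.inv_mem (hLF _ hφ)
      have h1 := hψv x
      rw [apply_eq_of_central h.central hψ (x := ⟨φ x, x, rfl⟩) (show φ x ∈ Z from hx ▸ hz)] at h1
      have h2 : φ x = (x : Ω) := h1
      rw [hx] at h2
      exact h2.symm ▸ x.2
    obtain ⟨hφF, φ', hφ', hind⟩ := liftSystem_isSubsystemOf_over _ (hLdef ▸ hφ)
    have hconj : M'.IsConj (imageAlong θ P) (imageAlong θ R) :=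
      ⟨φ', hφ', (range_induced h.central h.factor hZP hφF hind).1.trans (by rw [hr])⟩
    obtain ⟨τ, hτ, hτN, hτP⟩ := h.exists_to hZP hPT hRn hconj
    rw [preimage_imageAlong h.factor hZR hRS] at hτN hτP
    exact ⟨τ, hLdef ▸ hτ, hτN, hτP, fun e => absurd e hPR⟩
  choose τ hτ hτN hτP hτR using hto
  have hmemR : ∀ P (hP : L.IsConj P R) (x : normalizerIn (preimageAlong θ T') P),
      (x : Ω) ∈ P → τ P hP x ∈ R := fun P hP x hx => (hτP P hP).le ⟨x, hx, rfl⟩
  let Good : ∀ P P' : Subgroup Ω, (P →* Ω) → Prop := fun P P' φ => ∀ (hP : L.IsConj P R)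
    (hP' : L.IsConj P' R), ∃ a ∈ A, ∀ (x : P) (hx : (x : Ω) ∈ normalizerIn (preimageAlong θ T') P)
      (hx' : φ x ∈ normalizerIn (preimageAlong θ T') P') (hm : τ P hP ⟨x, hx⟩ ∈ R),
      τ P' hP' ⟨φ x, hx'⟩ = (a ⟨τ P hP ⟨x, hx⟩, hm⟩ : Ω)
  -- restrictions of maps on strictly larger subgroups
  have key : ∀ (P W : Subgroup Ω) (hPW : P < W), W ≤ normalizerIn (preimageAlong θ T') P →
      ∀ Φ : W →* Ω, Φ ∈ L.Hom W → Good P (imgHom Φ P) (restrictHom Φ hPW.le) := by
    intro P W hPW hWN Φ hΦ hP hP'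
    obtain ⟨e, he, hev⟩ := exists_iso_range (restrict_mem (hτ P hP) hWN)
    obtain ⟨X, hXdef⟩ : ∃ X, X = (restrictHom (τ P hP) hWN).range := ⟨_, rfl⟩
    subst hXdef
    have hPN : P ≤ normalizerIn (preimageAlong θ T') P := hPW.le.trans hWN
    have hXN : (restrictHom (τ P hP) hWN).range ≤ normalizerIn (preimageAlong θ T') R := by
      rintro _ ⟨x, rfl⟩
      exact hτN P hP _
    have hRX : R < (restrictHom (τ P hP) hWN).range := by
      refine lt_of_le_of_ne ?_ ?_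
      · rw [range_restrictHom]
        exact (hτP P hP).ge.trans (imgHom_mono _ hPW.le)
      · intro e'
        have h1 : Nat.card P = Nat.card R := card_eq_of_isConj (F := L) hP
        have h2 : Nat.card W = Nat.card R := by
          rw [Nat.card_congr e.toEquiv, ← e']
        have := finite_of_le (hWN.trans ((normalizerIn_le _ _).trans hT))
        have h3 := card_lt_of_lt hPW (hWN.trans ((normalizerIn_le _ _).trans hT))
        omega
    have hΦN : ∀ w : W, Φ w ∈ normalizerIn (preimageAlong θ T') (imgHom Φ P) :=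
      fun w => ⟨apply_mem hΦ w, map_mem_normalizer hPW.le (g := w) (hWN w.2).2⟩
    have hf : (τ _ hP').comp ((Φ.comp e.symm.toMonoidHom).codRestrict
        (normalizerIn (preimageAlong θ T') (imgHom Φ P)) fun y => hΦN (e.symm y)) ∈
          L.Hom (restrictHom (τ P hP) hWN).range :=
      mem_congr (L.comp_mem (IsIso.comp_hom he.symm hΦ) (hτ _ hP') fun y => hΦN (e.symm y))
        fun y => rfl
    obtain ⟨f, hfdef⟩ : ∃ f, f = (τ _ hP').comp ((Φ.comp e.symm.toMonoidHom).codRestrict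
        (normalizerIn (preimageAlong θ T') (imgHom Φ P)) fun y => hΦN (e.symm y)) := ⟨_, rfl⟩
    rw [← hfdef] at hf
    have hfx : ∀ (x : P) (hx : τ P hP ⟨x, hPN x.2⟩ ∈ (restrictHom (τ P hP) hWN).range)
        (hx' : Φ ⟨x, hPW.le x.2⟩ ∈ normalizerIn (preimageAlong θ T') (imgHom Φ P)),
        f ⟨_, hx⟩ = τ _ hP' ⟨_, hx'⟩ := by
      intro x hx hx'
      rw [hfdef]
      refine congrArg (τ _ hP') (Subtype.ext ?_)
      show Φ (e.symm ⟨_, hx⟩) = Φ ⟨x, hPW.le x.2⟩
      refine congrArg Φ ((MulEquiv.symm_apply_eq e).2 (Subtype.ext ?_))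
      rw [hev]
      rfl
    have hfR : imgHom f R = R := by
      refine Subgroup.eq_of_le_of_card_ge ?_ ?_
      · rintro _ ⟨y, hy, rfl⟩
        obtain ⟨x, hx, hxy⟩ := (hτP P hP).ge hy
        have := hfx ⟨x, hx⟩ (hxy ▸ y.2) (hΦN ⟨x, hPW.le hx⟩)
        rw [show f y = f ⟨τ P hP ⟨x, hPN hx⟩, hxy ▸ y.2⟩ from
          congrArg f (Subtype.ext hxy.symm), this]
        exact hmemR _ hP' _ ⟨⟨x, hPW.le hx⟩, hx, rfl⟩
      · rw [card_imgHom (L.injective_of_mem hf) hRX.le]
    obtain ⟨a, ha, hav⟩ := h.exists_mem_of_fix ⟨hZR, hRT, hRc⟩ hRn hA IH hRX hXN (hLdef ▸ hf) hfR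
    refine ⟨a, ha, fun x hx hx' hm => ?_⟩
    rw [hav]
    exact (hfx x _ hx').symm
  let D : FusionSystem (preimageAlong θ T') :=
    { Hom := fun W => {φ | φ ∈ L.Hom W ∧ ∀ (P : Subgroup Ω) (hPW : P ≤ W),
        Good P (imgHom φ P) (restrictHom φ hPW)}
      le_of_mem := fun hφ => L.le_of_mem hφ.1
      injective_of_mem := fun hφ => L.injective_of_mem hφ.1
      conj_mem := by
        intro W g hW hg
        refine ⟨L.conj_mem hW hg, fun P hPW hP hP' => ?_⟩
        rcases (hPW.trans hW).eq_or_lt with hPT' | hlt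
        · have hPR : P = R := by
            have h1 := card_eq_of_isConj (F := L) hP
            rw [hPT'] at h1
            rw [hPT']
            exact (Subgroup.eq_of_le_of_card_ge hRT h1.le).symm
          have hgN : g ∈ Subgroup.normalizer (R : Set Ω) := by
            rw [← hPR, hPT']; exact Subgroup.le_normalizer hg
          have hP'R : imgHom (conjHom W g) P = R := by
            have h1 := card_eq_of_isConj (F := L) hP'
            rw [← hPR, hPT'] at h1 ⊢
            refine Subgroup.eq_of_le_of_card_ge ?_ h1.ge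
            rintro _ ⟨w, -, rfl⟩
            exact mul_mem (mul_mem hg (hW w.2)) (inv_mem hg)
          refine ⟨R.normalizerMonoidHom ⟨g, hgN⟩, hA.2.1
            (mem_autInducedBy_iff.2 ⟨g, hg, hgN, fun _ => rfl⟩), fun x hx hx' hm => ?_⟩
          rw [hτR _ hP' hP'R]
          show g * (x : Ω) * g⁻¹ = g * τ P hP ⟨x, hx⟩ * g⁻¹
          rw [hτR _ hP hPR]
        · obtain ⟨N, hNdef⟩ : ∃ N, N = normalizerIn (preimageAlong θ T') P := ⟨_, rfl⟩
          have hPN : P < N := hNdef ▸ lt_normalizerIn hTp hlt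
          have hΦ := L.conj_mem (P := N) (hNdef ▸ normalizerIn_le _ _) hg
          have himg : imgHom (conjHom N g) P = imgHom (conjHom W g) P :=
            SatCriterion.imgHom_congr hPN.le hPW fun x hx => rfl
          exact (himg ▸ key P N hPN hNdef.le _ hΦ : Good P (imgHom (conjHom W g) P)
            (restrictHom (conjHom N g) hPN.le)) hP hP'
      comp_mem := by
        rintro W V φ ψ ⟨hφ, hφg⟩ ⟨hψ, hψg⟩ hh
        refine ⟨L.comp_mem hφ hψ hh, fun P hPW hP hP'' => ?_⟩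
        have hP₂V : imgHom φ P ≤ V := by rintro _ ⟨x, -, rfl⟩; exact hh x
        have hP₂ : L.IsConj (imgHom φ P) R :=
          isConj_trans (isConj_symm (isConj_restrict hφ hPW)) hP
        have e : imgHom (ψ.comp (φ.codRestrict V hh)) P = imgHom ψ (imgHom φ P) :=
          SatCriterion.imgHom_comp φ ψ hh P
        have hP₃ : L.IsConj (imgHom ψ (imgHom φ P)) R := e ▸ hP''
        obtain ⟨a, ha, hav⟩ := hφg P hPW hP hP₂
        obtain ⟨b, hb, hbv⟩ := hψg _ hP₂V hP₂ hP₃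
        refine ⟨b * a, A.mul_mem hb ha, fun x hx hx' hm => ?_⟩
        have hx2 : φ ⟨x, hPW x.2⟩ ∈ imgHom φ P := ⟨⟨x, hPW x.2⟩, x.2, rfl⟩
        have hP₂T : imgHom φ P ≤ preimageAlong θ T' := imgHom_le hφ P
        have hN₂ := le_normalizerIn hP₂T hx2
        have hm₂ := hmemR _ hP₂ ⟨_, hN₂⟩ hx2
        have h1 := hav x hx hN₂ hm
        have h2 := hbv ⟨_, hx2⟩ hN₂ (by
          have h5 : ψ ⟨φ ⟨x, hPW x.2⟩, hh _⟩ ∈ normalizerIn (preimageAlong θ T')
              (imgHom (ψ.comp (φ.codRestrict V hh)) P) := hx'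
          rwa [e] at h5) hm₂
        have hgen : ∀ (Q Q₂ : Subgroup Ω) (hQ : L.IsConj Q R) (hQ₂ : L.IsConj Q₂ R), Q = Q₂ →
            ∀ (y : Ω) (hy : y ∈ normalizerIn (preimageAlong θ T') Q)
              (hy₂ : y ∈ normalizerIn (preimageAlong θ T') Q₂),
              τ Q hQ ⟨y, hy⟩ = τ Q₂ hQ₂ ⟨y, hy₂⟩ := by
          rintro Q _ hQ hQ₂ rfl y hy hy₂; rfl
        refine (hgen _ _ hP'' hP₃ e _ hx' _).trans (h2.trans ?_)
        exact congrArg (fun z : R => (b z : Ω)) (Subtype.ext h1)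
      inv_mem := by
        rintro W φ ⟨hφ, hφg⟩
        obtain ⟨ψ, hψ, hψv⟩ := L.inv_mem hφ
        refine ⟨ψ, ⟨hψ, fun P₂ hP₂W hP₂ hP => ?_⟩, hψv⟩
        have hPW : imgHom ψ P₂ ≤ W := by
          rintro _ ⟨⟨_, x, rfl⟩, -, rfl⟩
          exact (hψv x).symm ▸ x.2
        have e : imgHom φ (imgHom ψ P₂) = P₂ := by
          ext y
          constructor
          · rintro ⟨x, ⟨⟨_, x', rfl⟩, hx', hxx⟩, rfl⟩
            rw [show x = x' from Subtype.ext (hxx.symm.trans (hψv x'))]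
            exact hx'
          · intro hy
            obtain ⟨x, hx⟩ := hP₂W hy
            exact ⟨x, ⟨⟨φ x, x, rfl⟩, hx.symm ▸ hy, hψv x⟩, hx⟩
        have hP₂' : L.IsConj (imgHom φ (imgHom ψ P₂)) R := e.symm ▸ hP₂
        obtain ⟨a, ha, hav⟩ := hφg _ hPW hP hP₂'
        refine ⟨a⁻¹, A.inv_mem ha, fun y hy hy' hm => ?_⟩
        obtain ⟨x, hx⟩ := hP₂W y.2
        have hyx : restrictHom ψ hP₂W y = (x : Ω) := by
          rw [restrictHom_apply]
          exact (congrArg ψ (Subtype.ext hx.symm)).trans (hψv x)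
        have hxP : (x : Ω) ∈ imgHom ψ P₂ :=
          ⟨⟨φ x, x, rfl⟩, show φ x ∈ P₂ by rw [hx]; exact y.2, hψv x⟩
        have hxN : (x : Ω) ∈ normalizerIn (preimageAlong θ T') (imgHom ψ P₂) := by
          have h6 : restrictHom ψ hP₂W y ∈ normalizerIn (preimageAlong θ T') (imgHom ψ P₂) := hy'
          rwa [hyx] at h6
        have hmx := hmemR _ hP ⟨_, hxN⟩ hxP
        have h1 := hav ⟨x, hxP⟩ hxN (by
          show φ ⟨x, _⟩ ∈ normalizerIn _ (imgHom φ (imgHom ψ P₂))
          rw [e, hx]; exact hy) hmx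
        have hgen : ∀ (Q Q₂ : Subgroup Ω) (hQ : L.IsConj Q R) (hQ₂ : L.IsConj Q₂ R), Q = Q₂ →
            ∀ (y y₂ : Ω), y = y₂ → ∀ (hy : y ∈ normalizerIn (preimageAlong θ T') Q)
              (hy₂ : y₂ ∈ normalizerIn (preimageAlong θ T') Q₂),
              τ Q hQ ⟨y, hy⟩ = τ Q₂ hQ₂ ⟨y₂, hy₂⟩ := by
          rintro Q _ hQ hQ₂ rfl y _ rfl hy hy₂; rfl
        rw [hgen _ _ hP hP rfl _ _ hyx hy' hxN]
        have h2 : a ⟨_, hmx⟩ = ⟨τ P₂ hP₂ ⟨y, hy⟩, hm⟩ := Subtype.ext (h1.symm.trans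
          (hgen _ _ hP₂' hP₂ e _ _ hx _ hy))
        rw [← h2, MulAut.inv_apply_self] }
  have hgen : IsGen F p θ Z M' D := by
    intro Y hY γ hγ hc
    have hγL : γ ∈ L.autGroup Y := hLdef ▸ isGen_liftSystem Y hY γ hγ hc
    refine IsIso.mem_autGroup ⟨(mem_autGroup_iff hY.2.1).1 hγL, fun P hPY hP hP' => ?_⟩
    rcases hPY.eq_or_lt with rfl | hlt
    · have hYimg : imgHom (P.subtype.comp γ.toMonoidHom) P = P := by
        rw [imgHom_self, range_subtype_comp]
      have hPN : P ≤ normalizerIn (preimageAlong θ T') P := le_normalizerIn hY.2.1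
      obtain ⟨e, he, hev⟩ := exists_iso (restrict_mem (hτ P hP) hPN)
        ((range_restrictHom _ hPN).trans (hτP P hP))
      have := finite_of_le (hY.2.1.trans hT)
      refine ⟨MulAut.congr e γ, hA.1 _ (h.congr_mem_over hY.1 hY.2.1 hRT (hLF _ he) hγ)
        (hc.coprime_dvd_left (orderOf_map_dvd (MulAut.congr e).toMonoidHom γ)),
        fun x hx hx' hm => ?_⟩
      rw [show (⟨τ P hP ⟨x, hx⟩, hm⟩ : R) = e x from Subtype.ext (hev x).symm, congr_apply, hev]
      have hgen : ∀ (Q : Subgroup Ω) (hQ : L.IsConj Q R) (hQP : Q = P) (y : Ω)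
          (hy : y ∈ normalizerIn (preimageAlong θ T') Q)
          (hy₂ : y ∈ normalizerIn (preimageAlong θ T') P), τ Q hQ ⟨y, hy⟩ = τ P hP ⟨y, hy₂⟩ := by
        rintro _ hQ rfl y hy hy₂; rfl
      exact hgen _ hP' hYimg _ hx' _
    · obtain ⟨W, hWdef⟩ : ∃ W, W = normalizerIn Y P := ⟨_, rfl⟩
      have := finite_of_le (hY.2.1.trans hT)
      have hPW : P < W :=
        hWdef ▸ lt_normalizerIn (p := p) (h.pgroup.to_le (hY.2.1.trans hT)) hlt
      have hWY : W ≤ Y := hWdef ▸ normalizerIn_le _ _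
      have hΦ := restrict_mem ((mem_autGroup_iff hY.2.1).1 hγL) hWY
      have himg : imgHom (restrictHom (Y.subtype.comp γ.toMonoidHom) hWY) P =
          imgHom (Y.subtype.comp γ.toMonoidHom) P :=
        SatCriterion.imgHom_congr hPW.le hlt.le fun x hx => rfl
      have hWN : W ≤ normalizerIn (preimageAlong θ T') P :=
        hWdef ▸ inf_le_inf_right _ hY.2.1
      exact (himg ▸ key P W hPW hWN _ hΦ :
        Good P (imgHom (Y.subtype.comp γ.toMonoidHom) P)
          (restrictHom (restrictHom (Y.subtype.comp γ.toMonoidHom) hWY) hPW.le)) hP hP'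
  intro a₀ ha₀
  have hI : IsIso L a₀ := (mem_autGroup_iff hRT).1 ha₀
  obtain ⟨-, hgood⟩ := (hLdef ▸ liftSystem_le hgen : L ≤ D) R hI
  have hRR : L.IsConj R R := isConj_refl hRT
  have himg : imgHom (R.subtype.comp a₀.toMonoidHom) R = R := by
    rw [imgHom_self, range_subtype_comp]
  obtain ⟨a, ha, hav⟩ := hgood R le_rfl hRR (himg.symm ▸ hRR)
  have : a₀ = a := MulEquiv.ext fun x => Subtype.ext (by
    have hxN := le_normalizerIn hRT x.2
    have hxv := hτR R hRR rfl ⟨x, hxN⟩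
    have hyN : (a₀ x : Ω) ∈ normalizerIn (preimageAlong θ T')
        (imgHom (R.subtype.comp a₀.toMonoidHom) R) := himg.symm ▸ le_normalizerIn hRT (a₀ x).2
    have h1 := hav x hxN hyN (hxv.symm ▸ x.2)
    rw [hτR _ _ himg] at h1
    exact h1.trans (congrArg (fun z : R => (a z : Ω)) (Subtype.ext hxv)))
  exact this ▸ ha

/-- **Automorphisms of the lifted system trivial modulo the centre are inner.** -/
theorem inn_of_kerAut [Finite S] [Fact p.Prime] (h : IsCentralSetup F Z θ F' M' p)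
    {P : Subgroup Ω} (hP : P ≤ S) (hPH : InH θ Z M' P) {a : MulAut P}
    (ha : a ∈ (liftSystem F p θ Z M').autGroup P) (hak : a ∈ kerAut h.central hP) : a ∈ Inn P := by
  induction hd : Nat.card S - Nat.card P using Nat.strong_induction_on generalizing P with
  | _ d ih =>
  obtain ⟨hZP, hPT, hPc⟩ := hPH
  have := h.finite'
  have := h.finiteT'
  have := finite_of_le hP
  obtain ⟨R', hconj, hR'⟩ := exists_fullyNormalized (F := M') (h.image_le' hPT)
  obtain ⟨τ, hτ, -, hτP⟩ := h.exists_to hZP hPT hR' hconj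
  have hPN : P ≤ normalizerIn (preimageAlong θ T') P := le_normalizerIn hPT
  obtain ⟨e, he, -⟩ :=
    exists_iso (restrict_mem hτ hPN) ((range_restrictHom τ hPN).trans hτP)
  have hR'S : R' ≤ S' := hR'.1.trans h.le'
  have himg : imageAlong θ (preimageAlong θ R') = R' := image_preimageAlong h.factor hR'S
  have hRH : InH θ Z M' (preimageAlong θ R') := ⟨FusionSolvable.le_preimage h.factor R',
    he.le_right, himg.symm ▸ isCentric_of_isConj hPc hconj⟩
  obtain ⟨A, hA⟩ := h.exists_goodAut hRH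
  have hcard : Nat.card P = Nat.card (preimageAlong θ R') := Nat.card_congr e.toEquiv
  have hle : (liftSystem F p θ Z M').autGroup (preimageAlong θ R') ≤ A := by
    refine h.mem_of_liftSystem hRH (himg.symm ▸ hR') hA fun X hX hXH hlt b hb hbk => ?_
    refine ih (Nat.card S - Nat.card X) ?_ hX hXH hb hbk rfl
    have := Subgroup.card_le_of_le hX
    omega
  exact inn_of_congr e (hA.2.2 _ _ (hle (congr_mem_autGroup he ha))
    (conj_mem_kerAut (hQ := preimageAlong_le θ R') h.central (liftSystem_isSubsystemOf _ he) hak))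

end IsCentralSetup

end CfsgLib.FusionLayer
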