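/-
The lifted system is saturated and normal; the maps of the quotient subsystem are induced by it.
-/
import Cfsg.Agent.FusionLayer.Lift.Loop
import Cfsg.Agent.Fusion.PPowerIndexNormal
import Cfsg.Agent.Fusion.SaturationCriterion

set_option autoImplicit false

namespace CfsgLib.FusionLayer

open Cfsg Cfsg.FusionSystem CfsgLib.Fusion
open CfsgLib.FusionFactor (mem_preimageAlong preimageAlong_le)

variable {Ω : Type*} [Group Ω] {S : Subgroup Ω} {Ω' : Type*} [Group Ω'] {S' : Subgroup Ω'}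
  {F : FusionSystem S} {F' : FusionSystem S'} {θ : S →* Ω'} {Z : Subgroup Ω}
  {T' : Subgroup Ω'} {M' : FusionSystem T'} {p : ℕ}

/-- Two elements of `S` with the same image differ by an element of the kernel. -/
theorem inv_mul_mem_of_eq (h : F.IsFactorSystem Z θ F') {s t : S} (hst : θ s = θ t) :
    (s : Ω)⁻¹ * t ∈ Z :=
  (h.2.1 (s⁻¹ * t)).1 (by rw [map_mul, map_inv, hst, inv_mul_cancel])

/-- Elements differing by the kernel have the same image. -/
theorem eq_of_inv_mul_mem (h : F.IsFactorSystem Z θ F') {s t : S} (hst : (s : Ω)⁻¹ * t ∈ Z) :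
    θ s = θ t := by
  have := (h.2.1 (s⁻¹ * t)).2 hst
  rwa [map_mul, map_inv, inv_mul_eq_one] at this

/-- Elements of a centralizer commute with the centralized subgroup. -/
theorem comm_of_centralizerIn {G : Type*} [Group G] {K P : Subgroup G} {g x : G}
    (hg : g ∈ centralizerIn K P) (hx : x ∈ P) : g * x = x * g :=
  mul_inv_eq_iff_eq_mul.1 ((mem_centralizerIn'.1 hg).2 x hx)

namespace IsCentralSetup

/-- The automizer in the lifted system of a subgroup with fully normalized image. -/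
theorem isFullyAutomized_lift [Finite S] [Fact p.Prime] (h : IsCentralSetup F Z θ F' M' p)
    {R : Subgroup Ω} (hR : InH θ Z M' R) (hRn : M'.IsFullyNormalized (imageAlong θ R)) :
    (liftSystem F p θ Z M').IsFullyAutomized p R := by
  obtain ⟨hZR, hRT, hRc⟩ := hR
  have hT := preimageAlong_le θ T'
  have hRS := hRT.trans hT
  have := h.finite'
  have := h.finiteT'
  have := finite_of_le hT
  have := finite_of_le hRS
  have hT'p : IsPGroup p T' := h.pgroup'.to_le h.le'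
  obtain ⟨L, hLdef⟩ : ∃ L, L = liftSystem F p θ Z M' := ⟨_, rfl⟩
  rw [← hLdef]
  obtain ⟨hRa, -⟩ := automized_receptive hT'p h.normal.1.1 hRn
  have hover : ∀ a : L.autGroup R, ∃ β ∈ M'.autGroup (imageAlong θ R), ∀ x : R,
      (β ⟨θ ⟨x, hRS x.2⟩, ⟨_, x.2, rfl⟩⟩ : Ω') =
        θ ⟨((a : MulAut R) x : Ω), hRS ((a : MulAut R) x).2⟩ := by
    rintro ⟨a, ha⟩
    have ha' : a ∈ (overSystem F θ M').autGroup R := by
      rw [mem_autGroup_iff hRT] at ha ⊢
      exact liftSystem_isSubsystemOf_over _ (hLdef ▸ ha)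
    obtain ⟨-, β, hβ, hv⟩ := (mem_over_autGroup_iff h.central h.factor hZR hRT).1 ha'
    exact ⟨β, hβ, fun x => hv ⟨x, hRS x.2⟩ x.2 _ _⟩
  choose down hdown hdownv using hover
  let f : L.autGroup R →* MulAut (imageAlong θ R) := MonoidHom.mk' down (by
    intro a b
    refine MulEquiv.ext ?_
    rintro ⟨_, s, hs, rfl⟩
    refine Subtype.ext ?_
    have hs' : (s : Ω) ∈ R := hs
    rw [MulAut.mul_apply]
    refine (hdownv (a * b) ⟨s, hs'⟩).trans ?_
    rw [show down b ⟨θ s, ⟨s, hs, rfl⟩⟩ = ⟨θ ⟨((b : MulAut R) ⟨s, hs'⟩ : Ω),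
      hRS ((b : MulAut R) ⟨s, hs'⟩).2⟩, ⟨_, ((b : MulAut R) ⟨s, hs'⟩).2, rfl⟩⟩ from
        Subtype.ext (hdownv b ⟨s, hs'⟩), hdownv a ((b : MulAut R) ⟨s, hs'⟩)]
    rfl)
  have hTA : autInducedBy (preimageAlong θ T') R ≤ L.autGroup R := autInducedBy_le_autGroup hRT
  have hTp : IsPGroup p (preimageAlong θ T') := h.pgroup.to_le hT
  refine ⟨hRT, ⟨(autInducedBy (preimageAlong θ T') R).subgroupOf (L.autGroup R),
    (isPGroup_autInducedBy hTp R).comap_subtype, ?_⟩, rfl⟩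
  intro Q hQ hle
  refine le_antisymm (fun a ha => ?_) hle
  have hX := eq_autInducedBy_of_le hRa (X := Q.map f) (by
      rintro _ ⟨b, -, rfl⟩
      exact hdown b) (hQ.map f) (by
      intro β hβ
      obtain ⟨t', ht', ht'N, ht'v⟩ := mem_autInducedBy_iff.1 hβ
      obtain ⟨t, rfl⟩ := h.factor.2.2.1.ge (h.le' ht')
      have htN : (t : Ω) ∈ Subgroup.normalizer (R : Set Ω) :=
        (mem_normalizer_image_iff h.factor hZR hRS).1 ht'N
      have htm : R.normalizerMonoidHom ⟨t, htN⟩ ∈ autInducedBy (preimageAlong θ T') R :=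
        mem_autInducedBy_iff.2 ⟨t, mem_preimageAlong.2 ⟨t.2, ht'⟩, htN, fun _ => rfl⟩
      refine ⟨⟨_, hTA htm⟩, hle htm, MulEquiv.ext ?_⟩
      rintro ⟨_, s, hs, rfl⟩
      refine Subtype.ext ((hdownv ⟨_, hTA htm⟩ ⟨s, hs⟩).trans ?_)
      rw [ht'v, ← map_inv, ← map_mul, ← map_mul]
      rfl)
  obtain ⟨t', ht', ht'N, ht'v⟩ := mem_autInducedBy_iff.1 (hX.le ⟨a, ha, rfl⟩)
  obtain ⟨t, rfl⟩ := h.factor.2.2.1.ge (h.le' ht')
  have htN : (t : Ω) ∈ Subgroup.normalizer (R : Set Ω) :=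
    (mem_normalizer_image_iff h.factor hZR hRS).1 ht'N
  have htT : (t : Ω) ∈ preimageAlong θ T' := mem_preimageAlong.2 ⟨t.2, ht'⟩
  obtain ⟨c, hcdef⟩ : ∃ c, c = R.normalizerMonoidHom ⟨t, htN⟩ := ⟨_, rfl⟩
  have hc : c ∈ autInducedBy (preimageAlong θ T') R :=
    hcdef ▸ mem_autInducedBy_iff.2 ⟨t, htT, htN, fun _ => rfl⟩
  have haF : ∀ {g : MulAut R}, g ∈ L.autGroup R → g ∈ F.autGroup R := fun {g} hg => by
    rw [mem_autGroup_iff hRT] at hg
    exact (mem_autGroup_iff hRS).2 (liftSystem_isSubsystemOf _ (hLdef ▸ hg))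
  have hk : c⁻¹ * (a : MulAut R) ∈ kerAut h.central hRS := by
    refine mem_kerAut_of_same h.central h.factor (haF (hTA hc)) (haF a.2) fun x => ?_
    rw [← hdownv a x]
    refine Eq.trans ?_ (ht'v _).symm
    rw [← map_inv, ← map_mul, ← map_mul, hcdef]
    rfl
  have hkI := h.inn_of_kerAut hRS ⟨hZR, hRT, hRc⟩
    (hLdef ▸ mul_mem (inv_mem (hTA hc)) a.2) hk
  have := mul_mem hc (Inn_le_autInducedBy hRT hkI)
  rw [mul_inv_cancel_left] at this
  exact this

/-- Receptivity in the lifted system of a subgroup with fully normalized image. -/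
theorem isReceptive_lift [Finite S] [Fact p.Prime] (h : IsCentralSetup F Z θ F' M' p)
    {R : Subgroup Ω} (hR : InH θ Z M' R) (hRn : M'.IsFullyNormalized (imageAlong θ R)) :
    (liftSystem F p θ Z M').IsReceptive R := by
  obtain ⟨hZR, hRT, hRc⟩ := hR
  have hT := preimageAlong_le θ T'
  have hRS := hRT.trans hT
  have := h.finite'
  have := h.finiteT'
  have hT'p : IsPGroup p T' := h.pgroup'.to_le h.le'
  obtain ⟨L, hLdef⟩ : ∃ L, L = liftSystem F p θ Z M' := ⟨_, rfl⟩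
  rw [← hLdef]
  have hLF : L.IsSubsystemOf F := hLdef ▸ liftSystem_isSubsystemOf
  obtain ⟨-, -, hRr⟩ := automized_receptive hT'p h.normal.1.1 hRn
  refine ⟨hRT, fun W f hf hfr => ?_⟩
  have hWT := le_left hf
  have hWS := hWT.trans hT
  have hZW : Z ≤ W := fun z hz => by
    obtain ⟨x, hx⟩ := hfr.ge (hZR hz)
    obtain ⟨g, hg, hgv⟩ := F.inv_mem (hLF _ hf)
    have h1 := hgv x
    rw [apply_eq_of_central h.central hg (x := ⟨f x, x, rfl⟩) (show f x ∈ Z from hx ▸ hz)] at h1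
    have h2 : f x = (x : Ω) := h1
    rw [hx] at h2
    exact h2.symm ▸ x.2
  obtain ⟨-, f', hf', hind⟩ := liftSystem_isSubsystemOf_over _ (hLdef ▸ hf)
  have hf'r : f'.range = imageAlong θ R :=
    (range_induced h.central h.factor hZW (hLF _ hf) hind).1.trans (by rw [hfr])
  have hWH : InH θ Z M' W := ⟨hZW, hWT, isCentric_of_isConj hRc (isConj_symm ⟨f', hf', hf'r⟩)⟩
  obtain ⟨ψ', hψ', hψ'v⟩ := hRr _ f' hf' hf'r
  obtain ⟨ψ, hψ, hψi⟩ := h.exists_lift hψ'
  rw [← hLdef] at hψ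
  have hle : extender (preimageAlong θ T') W f ≤
      preimageAlong θ (extender T' (imageAlong θ W) f') := by
    rw [extender, Subgroup.closure_le]
    rintro g ⟨hg, hgN, k, hk, hgk⟩
    obtain ⟨hgS, hgT⟩ := mem_preimageAlong.1 hg
    obtain ⟨hkS, hkT⟩ := mem_preimageAlong.1 hk
    refine mem_preimageAlong.2 ⟨hgS, Subgroup.subset_closure ⟨hgT,
      (mem_normalizer_image_iff h.factor hZW hWS).2 hgN, θ ⟨k, hkS⟩, hkT, ?_⟩⟩
    rintro ⟨_, x, hx, rfl⟩ hgx
    have hx' : g * (x : Ω) * g⁻¹ ∈ W := (Subgroup.mem_normalizer_iff.1 hgN _).1 hx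
    obtain ⟨hm, he⟩ := induced_value hind ⟨g * (x : Ω) * g⁻¹, hWS hx'⟩ hx' ⟨_, hx', rfl⟩
    obtain ⟨hm₀, he₀⟩ := induced_value hind x hx ⟨x, hx, rfl⟩
    refine Eq.trans (congrArg f' (Subtype.ext ?_)) (he.trans ?_)
    · show θ ⟨g, hgS⟩ * θ x * (θ ⟨g, hgS⟩)⁻¹ = θ ⟨g * (x : Ω) * g⁻¹, hWS hx'⟩
      rw [← map_inv, ← map_mul, ← map_mul]
      rfl
    · rw [he₀, ← map_inv, ← map_mul, ← map_mul]
      exact congrArg θ (Subtype.ext (hgk ⟨x, hx⟩ hx'))
  have hWN : W ≤ extender (preimageAlong θ T') W f := le_extender hWT fun x => apply_mem hf x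
  obtain ⟨ψN, hψN, hψNv⟩ : ∃ ψN ∈ L.Hom (extender (preimageAlong θ T') W f),
      ∀ x, ψN x = ψ (Subgroup.inclusion hle x) := ⟨_, restrict_mem hψ hle, fun x => rfl⟩
  -- `ψN` and `f` agree modulo the centre on `W`
  have hsame : ∀ x : W, θ ⟨ψN (Subgroup.inclusion hWN x), apply_mem (hLF _ hψN) _⟩ =
      θ ⟨f x, apply_mem (hLF _ hf) x⟩ := by
    intro x
    have hxW : θ ⟨x, hWS x.2⟩ ∈ imageAlong θ W := ⟨_, x.2, rfl⟩
    have hxN : θ ⟨x, hWS x.2⟩ ∈ extender T' (imageAlong θ W) f' :=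
      (mem_preimageAlong.1 (hle (hWN x.2))).2
    obtain ⟨hm, he⟩ := induced_value hind ⟨x, hWS x.2⟩ x.2 hxW
    obtain ⟨hm', he'⟩ := induced_value hψi ⟨x, hWS x.2⟩ (hle (hWN x.2)) hxN
    refine Eq.trans ?_ (he'.symm.trans ((hψ'v _ hxW hxN).trans he))
    exact congrArg θ (Subtype.ext (hψNv _))
  have := finite_of_le hWS
  obtain ⟨ef, hef, hefv⟩ := exists_iso hf hfr
  obtain ⟨eψ, heψ, heψv⟩ := exists_iso (restrict_mem hψN hWN) (Q := R) (by
    have := finite_of_le hRS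
    refine Subgroup.eq_of_le_of_card_ge ?_ (le_of_eq ?_)
    · rintro _ ⟨x, rfl⟩
      have h3 := inv_mul_mem_of_eq h.factor (hsame x).symm
      have h4 : f x ∈ R := hfr ▸ ⟨x, rfl⟩
      have h5 := R.mul_mem h4 (hZR h3)
      rwa [mul_inv_cancel_left] at h5
    · rw [← imgHom_self (restrictHom ψN hWN),
        card_imgHom (L.injective_of_mem (restrict_mem hψN hWN)) le_rfl, Nat.card_congr ef.toEquiv])
  obtain ⟨b, hbdef⟩ : ∃ b : MulAut W, b = eψ.trans ef.symm := ⟨_, rfl⟩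
  have hbL : b ∈ L.autGroup W := hbdef ▸ (heψ.trans hef.symm).mem_autGroup
  have hbF : b ∈ F.autGroup W := by
    rw [mem_autGroup_iff hWT] at hbL
    exact (mem_autGroup_iff hWS).2 (hLF _ hbL)
  have hbk : b ∈ kerAut h.central hWS := by
    refine ⟨hbF, fun x => inv_mul_mem_of_eq h.factor
      (s := ⟨x, hWS x.2⟩) (t := ⟨b x, hWS (b x).2⟩) ?_⟩
    have hv : f (b x) = ψN (Subgroup.inclusion hWN x) := by
      rw [← hefv, hbdef, MulEquiv.trans_apply, MulEquiv.apply_symm_apply, heψv]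
      rfl
    obtain ⟨hm, he⟩ := induced_value hind ⟨b x, hWS (b x).2⟩ (b x).2 ⟨_, (b x).2, rfl⟩
    obtain ⟨hm', he'⟩ := induced_value hind ⟨x, hWS x.2⟩ x.2 ⟨_, x.2, rfl⟩
    have h5 : (⟨θ ⟨x, hWS x.2⟩, ⟨_, x.2, rfl⟩⟩ : imageAlong θ W) =
        ⟨θ ⟨b x, hWS (b x).2⟩, ⟨_, (b x).2, rfl⟩⟩ := by
      refine M'.injective_of_mem hf' ?_
      rw [he, he']
      exact (hsame x).symm.trans (congrArg θ (Subtype.ext hv.symm))
    exact congrArg Subtype.val h5
  have hbI := h.inn_of_kerAut hWS hWH (hLdef ▸ hbL) hbk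
  rw [Inn_eq] at hbI
  obtain ⟨w, hw, -, hwv⟩ := mem_autInducedBy_iff.1 hbI
  refine ⟨ψN.comp ((conjHom _ w⁻¹).codRestrict (extender (preimageAlong θ T') W f) fun y =>
      mul_mem (mul_mem (inv_mem (hWN hw)) y.2) (inv_mem (inv_mem (hWN hw)))),
    L.comp_mem (L.conj_mem (extender_le_normalizerIn f |>.trans (normalizerIn_le _ _))
      (Subgroup.inv_mem _ (hWT hw))) hψN _, fun x hx hxN => ?_⟩
  have hx' : w⁻¹ * x * w⁻¹⁻¹ ∈ W := mul_mem (mul_mem (inv_mem hw) hx) (inv_mem (inv_mem hw))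
  have hb1 : b ⟨_, hx'⟩ = ⟨x, hx⟩ := Subtype.ext (by rw [hwv]; group)
  show ψN ⟨w⁻¹ * x * w⁻¹⁻¹, _⟩ = _
  calc _ = (eψ ⟨_, hx'⟩ : Ω) := (heψv ⟨_, hx'⟩).symm
    _ = (ef (b ⟨_, hx'⟩) : Ω) := by rw [hbdef, MulEquiv.trans_apply, MulEquiv.apply_symm_apply]
    _ = f ⟨x, hx⟩ := by rw [hb1, hefv]

/-- The lifted system is saturated. -/
theorem liftSystem_isSaturated [Finite S] [Fact p.Prime] (h : IsCentralSetup F Z θ F' M' p) :
    (liftSystem F p θ Z M').IsSaturated p := by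
  have hT := preimageAlong_le θ T'
  have := finite_of_le hT
  have := h.finite'
  have := h.finiteT'
  have hTp : IsPGroup p (preimageAlong θ T') := h.pgroup.to_le hT
  obtain ⟨L, hLdef⟩ : ∃ L, L = liftSystem F p θ Z M' := ⟨_, rfl⟩
  rw [← hLdef]
  have hLF : L.IsSubsystemOf F := hLdef ▸ liftSystem_isSubsystemOf
  have himg : ∀ {P Q : Subgroup Ω}, Z ≤ P → L.IsConj P Q →
      Z ≤ Q ∧ Q ≤ preimageAlong θ T' ∧ M'.IsConj (imageAlong θ P) (imageAlong θ Q) := by
    rintro P _ hZP ⟨φ, hφ, rfl⟩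
    obtain ⟨-, φ', hφ', hind⟩ := liftSystem_isSubsystemOf_over _ (hLdef ▸ hφ)
    obtain ⟨e1, e2⟩ := range_induced h.central h.factor hZP (hLF _ hφ) hind
    exact ⟨e2, range_le hφ, φ', hφ', e1⟩
  refine SatCriterion.isSaturated hTp {P | InH θ Z M' P} ?_ ?_ ?_ ?_
  · rintro P ⟨hZP, -, hPc⟩ Q hPQ
    obtain ⟨h1, h2, h3⟩ := himg hZP hPQ
    exact ⟨h1, h2, isCentric_of_isConj hPc h3⟩
  · rintro P ⟨hZP, hPT, hPc⟩
    obtain ⟨R', hconj, hR'⟩ := exists_fullyNormalized (F := M') (h.image_le' hPT)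
    obtain ⟨τ, hτ, -, hτP⟩ := h.exists_to hZP hPT hR' hconj
    have hPN : P ≤ normalizerIn (preimageAlong θ T') P := le_normalizerIn hPT
    have hPR : L.IsConj P (preimageAlong θ R') := by
      rw [← hτP, hLdef]
      exact isConj_restrict hτ hPN
    have e := image_preimageAlong h.factor (hR'.1.trans h.le')
    obtain ⟨h1, h2, h3⟩ := himg hZP hPR
    have hRH : InH θ Z M' (preimageAlong θ R') := ⟨h1, h2, isCentric_of_isConj hPc h3⟩
    exact ⟨_, hPR, hLdef ▸ h.isFullyAutomized_lift hRH (e.symm ▸ hR'),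
      hLdef ▸ h.isReceptive_lift hRH (e.symm ▸ hR')⟩
  · intro E hE
    rw [hLdef]
    refine liftSystem_le fun P hP γ hγ hc => ?_
    exact (mem_autGroup_iff hP.2.1).2 (hE P hP (hLdef ▸
      (mem_autGroup_iff hP.2.1).1 (isGen_liftSystem P hP γ hγ hc)))
  · intro P hPc hPH
    have hPT := hPc.1
    have hPS := hPT.trans hT
    have hZP : Z ≤ P := fun z hz => centralizerIn_le_of_centric hPc
      (mem_centralizerIn'.2 ⟨h.center_le_preimage hz, fun x hx =>
        mul_inv_eq_iff_eq_mul.2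
          (Subgroup.mem_centralizer_iff.1 (central_le_centralizer h.central hz) x (hPS hx)).symm⟩)
    have hnc : ¬ M'.IsCentric (imageAlong θ P) := fun hc => hPH ⟨hZP, hPT, hc⟩
    obtain ⟨Q', ⟨φ', hφ', hr⟩, hQ'⟩ : ∃ Q', M'.IsConj (imageAlong θ P) Q' ∧
        ¬ centralizerIn T' Q' ≤ Q' := by
      by_contra hne
      push Not at hne
      exact hnc ⟨h.image_le' hPT, hne⟩
    obtain ⟨x', hx', hx'Q⟩ := SetLike.not_le_iff_exists.1 hQ'
    obtain ⟨φ, hφ, hind⟩ := h.exists_lift hφ'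
    rw [← hLdef] at hφ
    have e := preimage_imageAlong h.factor hZP hPS
    have hind' : InducedAlong θ (restrictHom φ e.ge) φ' :=
      ⟨hPS, fun x => hind.2.1 _, fun x => hind.2.2.1 ⟨x, e.ge x.2⟩,
        fun x => hind.2.2.2 ⟨x, e.ge x.2⟩⟩
    have hφP := restrict_mem hφ e.ge
    obtain ⟨e1, e2⟩ := range_induced h.central h.factor hZP (hLF _ hφP) hind'
    obtain ⟨Q, hQdef⟩ : ∃ Q, Q = (restrictHom φ e.ge).range := ⟨_, rfl⟩
    have hQimg : imageAlong θ Q = Q' := by rw [hQdef, ← e1, hr]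
    have hZQ : Z ≤ Q := hQdef ▸ e2
    have hPQ : L.IsConj P Q := ⟨_, hφP, hQdef.symm⟩
    have hQT := le_of_isConj_right hPQ
    have hQS := hQT.trans hT
    refine ⟨Q, hPQ, fun hle => ?_⟩
    obtain ⟨hx'T, hx'C⟩ := mem_centralizerIn'.1 hx'
    obtain ⟨x, rfl⟩ := h.factor.2.2.1.ge (h.le' hx'T)
    have hxT : (x : Ω) ∈ preimageAlong θ T' := mem_preimageAlong.2 ⟨x.2, hx'T⟩
    have := finite_of_le hQS
    have hxN : (x : Ω) ∈ Subgroup.normalizer (Q : Set Ω) := by
      refine SatCriterion.mem_normalizer_of_finite fun q hq => ?_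
      refine (mem_iff_of_ker h.factor hZQ (s := x * ⟨q, hQS hq⟩ * x⁻¹)).1 ?_
      rw [map_mul, map_mul, map_inv, hx'C (θ ⟨q, hQS hq⟩) (hQimg ▸ ⟨_, hq, rfl⟩)]
      exact ⟨_, hq, rfl⟩
    obtain ⟨k, hkdef⟩ : ∃ k, k = Q.normalizerMonoidHom ⟨x, hxN⟩ := ⟨_, rfl⟩
    have hkT : k ∈ autInducedBy (preimageAlong θ T') Q :=
      hkdef ▸ mem_autInducedBy_iff.2 ⟨x, hxT, hxN, fun _ => rfl⟩
    have hLaut : L.autGroup Q ≤ F.autGroup Q := fun g hg => by
      rw [mem_autGroup_iff hQT] at hg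
      exact (mem_autGroup_iff hQS).2 (hLF _ hg)
    have hkL : k ∈ L.autGroup Q := autInducedBy_le_autGroup hQT hkT
    have hkK : k ∈ kerAut h.central hQS := by
      refine ⟨hLaut hkL, fun q => inv_mul_mem_of_eq h.factor
        (s := ⟨q, hQS q.2⟩) (t := ⟨k q, hQS (k q).2⟩) ?_⟩
      rw [show (⟨(k q : Ω), hQS (k q).2⟩ : S) = x * ⟨q, hQS q.2⟩ * x⁻¹ from
        Subtype.ext (by rw [hkdef]; rfl), map_mul, map_mul, map_inv,
        hx'C (θ ⟨q, hQS q.2⟩) (hQimg ▸ ⟨_, q.2, rfl⟩)]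
    have : ((kerAut h.central hQS).subgroupOf (L.autGroup Q)).Normal := by
      refine ⟨fun b hb a => ?_⟩
      rw [Subgroup.mem_subgroupOf] at hb ⊢
      rw [Subgroup.coe_mul, Subgroup.coe_mul, Subgroup.coe_inv, ← congr_self_eq]
      exact conj_mem_kerAut h.central ((mem_autGroup_iff hQS).1 (hLaut a.2)) hb
    have hkO : k ∈ autInducedBy (preimageAlong θ T') Q ⊓
        (pCore p (L.autGroup Q)).map (L.autGroup Q).subtype :=
      ⟨hkT, ⟨k, hkL⟩, PLocal.le_pCore (N := (kerAut h.central hQS).subgroupOf (L.autGroup Q))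
        (kerAut_isPGroup h.pgroup h.central hQS).comap_subtype hkK, rfl⟩
    have hI := hle hkO
    rw [Inn_eq] at hI
    obtain ⟨q, hq, -, hqv⟩ := mem_autInducedBy_iff.1 hI
    have hc : q⁻¹ * (x : Ω) ∈ centralizerIn (preimageAlong θ T') Q := by
      refine mem_centralizerIn'.2 ⟨mul_mem (inv_mem (hQT hq)) hxT, fun y hy => ?_⟩
      have h1 : (x : Ω) * y * (x : Ω)⁻¹ = q * y * q⁻¹ := by
        rw [← hqv ⟨y, hy⟩, hkdef]; rfl
      have h2 : (x : Ω) * y = q * y * q⁻¹ * x := by rw [← h1]; group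
      rw [mul_inv_eq_iff_eq_mul, show q⁻¹ * (x : Ω) * y = q⁻¹ * ((x : Ω) * y) from mul_assoc _ _ _,
        h2]
      group
    have := Q.mul_mem hq (centralizerIn_le_of_centric (isCentric_of_isConj hPc hPQ) hc)
    rw [mul_inv_cancel_left] at this
    exact hx'Q (hQimg ▸ ⟨x, this, rfl⟩)

/-- The transport of the lifted system by an automorphism of the preimage. -/
theorem autInvariant_lift [Finite S] [Fact p.Prime] (h : IsCentralSetup F Z θ F' M' p) :
    AutInvariant (liftSystem F p θ Z M') F := by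
  intro P hPT φ hφ α hα
  have hT := preimageAlong_le θ T'
  have hIsGen : IsGen F p θ Z M' (PPowerIndexNormal.transport (liftSystem F p θ Z M') α) := by
    rintro Y ⟨hZY, hYT, hYc⟩ γ hγ hc
    obtain ⟨e, he, hev⟩ : ∃ e : Y ≃* PPowerIndexNormal.img α Y, IsIso F e ∧
        ∀ x : Y, (e x : Ω) = (α ⟨x, hYT x.2⟩ : Ω) :=
      exists_iso_restrict ((mem_autGroup_iff hT).1 hα) hYT
    have himgT : PPowerIndexNormal.img α Y ≤ preimageAlong θ T' := by
      rintro _ ⟨z, -, rfl⟩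
      exact (α z).2
    have hZ' : Z ≤ PPowerIndexNormal.img α Y := fun z hz => by
      have h1 : (e ⟨z, hZY hz⟩ : Ω) = z :=
        apply_eq_of_central h.central he (x := ⟨z, hZY hz⟩) hz
      exact h1 ▸ (e ⟨z, hZY hz⟩).2
    obtain ⟨e', he', -⟩ := exists_image_iso h.pgroup h.sat h.central h.factor hZY he
    have hH : InH θ Z M' (PPowerIndexNormal.img α Y) :=
      ⟨hZ', himgT, isCentric_of_isConj_big h.invariant hYc (h.image_le' himgT) he'.isConj⟩
    have hmem := isGen_liftSystem _ hH _ (h.congr_mem_over hZY hYT himgT he hγ)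
      (hc.coprime_dvd_left (orderOf_map_dvd (MulAut.congr e).toMonoidHom γ))
    refine IsIso.mem_autGroup ⟨hYT, fun x => hYT (γ x).2,
      (PPowerIndexNormal.img α Y).subtype.comp (MulAut.congr e γ).toMonoidHom,
      (mem_autGroup_iff himgT).1 hmem, fun x hx => ?_⟩
    show ((MulAut.congr e γ) ⟨_, hx⟩ : Ω) = _
    rw [show (⟨(α ⟨x, hYT x.2⟩ : Ω), hx⟩ : PPowerIndexNormal.img α Y) = e x from
      Subtype.ext (hev x).symm, congr_apply, hev]
    rfl
  obtain ⟨_, hv, χ, hχ, hχv⟩ := liftSystem_le hIsGen P hφ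
  exact ⟨χ, hχ, fun x hφx hαx => hχv x hαx⟩

/-- Every map below the preimage is an automorphism of the preimage composed with a lifted map. -/
theorem frattini_lift [Finite S] [Fact p.Prime] (h : IsCentralSetup F Z θ F' M' p) :
    ∀ (P : Subgroup Ω), P ≤ preimageAlong θ T' → ∀ (φ : P →* Ω), φ ∈ F.Hom P →
      ∃ α ∈ F.autGroup (preimageAlong θ T'), ∃ φ₀ ∈ (liftSystem F p θ Z M').Hom P,
        ∀ (x : P) (hx : φ₀ x ∈ preimageAlong θ T'),
          φ x = ((α ⟨φ₀ x, hx⟩ : preimageAlong θ T') : Ω) := by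
  have hT := preimageAlong_le θ T'
  have hsc := h.stronglyClosed
  have := h.finite'
  have := finite_of_le hT
  obtain ⟨L, hLdef⟩ : ∃ L, L = liftSystem F p θ Z M' := ⟨_, rfl⟩
  rw [← hLdef]
  have hLF : L.IsSubsystemOf F := hLdef ▸ liftSystem_isSubsystemOf
  obtain ⟨D, hD⟩ := exists_decomp_system hsc (hLdef ▸ h.autInvariant_lift : AutInvariant L F)
  have hDF : ∀ (P : Subgroup Ω) (φ : P →* Ω), φ ∈ D.Hom P → φ ∈ F.Hom P :=
    fun P φ hφ => ((hD P φ).1 hφ).1
  -- modulo the kernel, every map decomposes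
  have hmod : ∀ (P : Subgroup Ω) (hP : P ≤ preimageAlong θ T'), Z ≤ P → ∀ φ ∈ F.Hom P,
      ∃ k ∈ kerAut h.central (hP.trans hT), φ.comp k.toMonoidHom ∈ D.Hom P := by
    intro P hP hZP φ hφ
    have hPS := hP.trans hT
    have := finite_of_le hPS
    obtain ⟨φ', hφ', hind⟩ := exists_image_map h.pgroup h.sat h.central h.factor hφ
    obtain ⟨α', hα', ψ', hψ', hv'⟩ := h.invariant.2.2.2 _ (h.image_le' hP) φ' hφ'
    obtain ⟨-, f, hf, hfi⟩ := (h.factor.2.2.2 _ _).1 ((mem_autGroup_iff h.le').1 hα')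
    obtain ⟨α, hα, hαv⟩ := exists_iso hf (Q := preimageAlong θ T') (by
      refine Subgroup.eq_of_le_of_card_ge ?_ (by
        rw [← imgHom_self, card_imgHom (F.injective_of_mem hf) le_rfl])
      rintro _ ⟨x, rfl⟩
      exact stronglyClosed_apply hsc hf x.2)
    obtain ⟨g₀, hg₀, hg₀i⟩ := h.exists_lift hψ'
    rw [← hLdef] at hg₀
    have e := preimage_imageAlong h.factor hZP hPS
    have hg₀P := restrict_mem hg₀ e.ge
    obtain ⟨g, hgdef⟩ : ∃ g : P →* Ω, g = (preimageAlong θ T').subtype.comp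
      (α.toMonoidHom.comp ((restrictHom g₀ e.ge).codRestrict _ fun x => apply_mem hg₀P x)) :=
        ⟨_, rfl⟩
    have hgF : g ∈ F.Hom P := hgdef ▸ mem_congr
      (F.comp_mem (hLF _ hg₀P) hα fun x => apply_mem hg₀P x) fun x => rfl
    have hgD : g ∈ D.Hom P := (hD P g).2 ⟨hgF, α, hα.mem_autGroup,
      restrictHom (restrictHom g₀ e.ge) inf_le_left, restrict_mem hg₀P _,
      fun x hx => by rw [hgdef]; rfl⟩
    have hsame : ∀ x : P, θ ⟨g x, apply_mem hgF x⟩ = θ ⟨φ x, apply_mem hφ x⟩ := by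
      intro x
      have hx' : θ ⟨x, hPS x.2⟩ ∈ imageAlong θ P := ⟨_, x.2, rfl⟩
      obtain ⟨hm, he⟩ := induced_value hind ⟨x, hPS x.2⟩ x.2 hx'
      obtain ⟨hm₀, he₀⟩ := induced_value hg₀i ⟨x, hPS x.2⟩ (e.ge x.2) hx'
      have hy : g₀ ⟨x, e.ge x.2⟩ ∈ preimageAlong θ T' := apply_mem hg₀ _
      obtain ⟨hm₁, he₁⟩ := induced_value hfi ⟨_, hm₀⟩ hy (mem_preimageAlong.1 hy).2
      refine Eq.trans ?_ he
      rw [hv' _ (apply_mem hψ' _)]
      refine Eq.trans ?_ (congrArg (fun w : T' => ((α' w : T') : Ω')) (Subtype.ext he₀.symm) :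
        ((α' ⟨θ ⟨_, hm₀⟩, (mem_preimageAlong.1 hy).2⟩ : T') : Ω') = _)
      refine Eq.trans ?_ he₁.symm
      refine congrArg θ (Subtype.ext ?_)
      show g x = f ⟨_, hy⟩
      rw [hgdef]
      exact hαv ⟨_, hy⟩
    have hgr : φ.range = g.range := by
      have hle : g.range ≤ φ.range := by
        rintro _ ⟨x, rfl⟩
        have h3 := inv_mul_mem_of_eq h.factor (hsame x).symm
        refine ⟨x * ⟨_, hZP h3⟩, ?_⟩
        rw [map_mul, apply_eq_of_central h.central hφ (x := ⟨_, hZP h3⟩) h3, mul_inv_cancel_left]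
      have := finite_of_le (range_le hφ)
      refine (Subgroup.eq_of_le_of_card_ge hle (le_of_eq ?_)).symm
      rw [← imgHom_self g, ← imgHom_self φ, card_imgHom (F.injective_of_mem hgF) le_rfl,
        card_imgHom (F.injective_of_mem hφ) le_rfl]
    obtain ⟨eφ, heφ, heφv⟩ := exists_iso hφ hgr
    obtain ⟨eg, heg, hegv⟩ := exists_iso hgF rfl
    obtain ⟨k, hkdef⟩ : ∃ k : MulAut P, k = eg.trans eφ.symm := ⟨_, rfl⟩
    have hkφ : ∀ x : P, φ (k x) = g x := fun x => by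
      rw [← heφv, hkdef, MulEquiv.trans_apply, MulEquiv.apply_symm_apply, hegv]
    refine ⟨k, ⟨hkdef ▸ (heg.trans heφ.symm).mem_autGroup, fun x => ?_⟩,
      mem_congr hgD fun x => hkφ x⟩
    have h3 : (φ x)⁻¹ * g x ∈ Z := inv_mul_mem_of_eq h.factor (hsame x).symm
    rw [← hkφ] at h3
    let z : P := ⟨_, hZP h3⟩
    have h4 : φ z = φ (x⁻¹ * k x) := by
      rw [apply_eq_of_central h.central hφ (x := z) h3, map_mul, map_inv]
    rw [← F.injective_of_mem hφ h4]
    exact h3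
  -- the kernel decomposes
  have hker : ∀ (P : Subgroup Ω) (hP : P ≤ preimageAlong θ T'), Z ≤ P →
      ∀ k ∈ kerAut h.central (hP.trans hT), k ∈ D.autGroup P := by
    intro P hP hZP k hk
    have hPS := hP.trans hT
    obtain ⟨R, hPR, hR⟩ := exists_fullyNormalized (F := F) hPS
    obtain ⟨e, he⟩ := isConj_iff.1 hPR
    have hRT : R ≤ preimageAlong θ T' := fun y hy => by
      obtain ⟨x, hx⟩ := e.surjective ⟨y, hy⟩
      have := stronglyClosed_apply hsc he (x := x) (hP x.2)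
      rwa [show ((R.subtype.comp e.toMonoidHom) x : Ω) = y from congrArg Subtype.val hx] at this
    have hRS := hR.1
    have := finite_of_le hRS
    obtain ⟨hRa, -⟩ := automized_receptive h.pgroup h.sat hR
    have hKn : autInducedBy S R ≤
        Subgroup.normalizer (kerAut h.central hRS : Set (MulAut R)) := fun a ha => by
      have : Finite (MulAut R) := Finite.of_injective (fun f : MulAut R => (f : R → R))
        DFunLike.coe_injective
      refine mem_normalizer_of_conj_mem fun γ hγ => ?_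
      rw [← congr_self_eq]
      exact conj_mem_kerAut h.central
        ((mem_autGroup_iff hRS).1 (autInducedBy_le_autGroup hRS ha)) hγ
    have hKS := eq_autInducedBy_of_le hRa (X := autInducedBy S R ⊔ kerAut h.central hRS)
      (sup_le (autInducedBy_le_autGroup hRS) fun γ hγ => hγ.1)
      ((isPGroup_autInducedBy h.pgroup R).to_sup_of_normal_right'
        (kerAut_isPGroup h.pgroup h.central hRS) hKn) le_sup_left
    obtain ⟨y, hy, -, hyv⟩ := mem_autInducedBy_iff.1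
      (hKS.le (Subgroup.mem_sup_right (conj_mem_kerAut (hQ := hRS) h.central he hk)))
    have hyD : MulAut.congr e k ∈ D.autGroup R :=
      IsIso.mem_autGroup (mem_congr (D.conj_mem hRS hy) fun x => hyv x)
    obtain ⟨k₂, hk₂, he₂⟩ := hmod P hP hZP _ he
    have hisoD : IsIso D (MulEquiv.trans k₂ e) := he₂
    have h1 := congr_mem_autGroup hisoD.symm hyD
    have h2 : MulAut.congr (MulEquiv.trans k₂ e).symm (MulAut.congr e k) = k := by
      refine MulEquiv.ext fun x => (MulEquiv.trans k₂ e).injective ?_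
      have h3 : k (k₂ x) = k₂ (k x) := by
        have := congrArg (fun f : MulAut P => f x) (kerAut_comm h.central hk hk₂)
        simpa using this
      simp [MulAut.congr, h3]
    rwa [h2] at h1
  intro P hP φ hφ
  obtain ⟨ψ, hψ, hψv, -⟩ := h.central.2 P φ hφ
  have hPZ : P ⊔ Z ≤ preimageAlong θ T' := sup_le hP h.center_le_preimage
  obtain ⟨k, hk, hkD⟩ := hmod _ hPZ le_sup_right ψ hψ
  have hk' := (mem_autGroup_iff (hPZ.trans hT)).1 (inv_mem (hker _ hPZ le_sup_right k hk))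
  have hψD : ψ ∈ D.Hom (P ⊔ Z) := mem_congr (IsIso.comp_hom hk' hkD) fun x => by
    show ψ x = ψ (k (k⁻¹ x))
    rw [MulAut.apply_inv_self]
  obtain ⟨-, α, hα, φ₀, hφ₀, hv⟩ := (hD P _).1
    (mem_congr (restrict_mem hψD le_sup_left) fun x => (hψv x).symm)
  refine ⟨α, hα, restrictHom φ₀ (le_inf le_rfl hP), restrict_mem hφ₀ _, fun x hx => ?_⟩
  exact hv ⟨x, x.2, hP x.2⟩ hx

/-- The lifted system is normal. -/
theorem liftSystem_isNormalIn [Finite S] [Fact p.Prime] (h : IsCentralSetup F Z θ F' M' p) :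
    (liftSystem F p θ Z M').IsNormalIn F p := by
  refine ⟨⟨h.liftSystem_isSaturated, h.sat, liftSystem_isSubsystemOf, h.stronglyClosed,
    h.autInvariant_lift, h.frattini_lift⟩, ?_⟩
  have hT := preimageAlong_le θ T'
  have := h.finite'
  have := h.finiteT'
  have := finite_of_le hT
  obtain ⟨T, hTdef⟩ : ∃ T, T = preimageAlong θ T' := ⟨_, rfl⟩
  have hTH : InH θ Z M' (preimageAlong θ T') :=
    ⟨h.center_le_preimage, le_rfl, (image_preimageAlong h.factor h.le').symm ▸ isCentric_self⟩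
  have hTp : IsPGroup p (preimageAlong θ T') := h.pgroup.to_le hT
  obtain ⟨hTa, -⟩ := automized_receptive hTp h.liftSystem_isSaturated
    (isFullyNormalized_self (F := liftSystem F p θ Z M'))
  have : Finite (MulAut ↥(preimageAlong θ T')) := Finite.of_injective
    (fun f : MulAut ↥(preimageAlong θ T') => (f : preimageAlong θ T' → preimageAlong θ T'))
    DFunLike.coe_injective
  obtain ⟨P₀, hP₀⟩ := hTa.2
  suffices hle : (liftSystem F p θ Z M').autGroup (preimageAlong θ T') ≤ trivialExtGroup F hT from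
    fun α hα => hle hα
  have htop := congrArg (Subgroup.map ((liftSystem F p θ Z M').autGroup (preimageAlong θ T')).subtype)
    (CfsgLib.Transfer.sylow_sup_pResidual P₀)
  rw [Subgroup.map_sup, ← MonoidHom.range_eq_map, Subgroup.range_subtype] at htop
  refine htop.ge.trans (sup_le ?_ ?_)
  · rw [hP₀, Subgroup.subgroupOf_map_subtype]
    refine inf_le_left.trans fun a ha => ?_
    obtain ⟨t, ht, -, hta⟩ := mem_autInducedBy_iff.1 ha
    have hn : t ∈ Subgroup.normalizer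
        ((preimageAlong θ T' ⊔ centralizerIn S (preimageAlong θ T') : Subgroup Ω) : Set Ω) :=
      Subgroup.le_normalizer (Subgroup.mem_sup_left ht)
    refine ⟨(preimageAlong θ T' ⊔ centralizerIn S (preimageAlong θ T')).normalizerMonoidHom
      ⟨t, hn⟩, autInducedBy_le_autGroup (sup_le hT (centralizerIn_le _ _))
        (mem_autInducedBy_iff.2 ⟨t, hT ht, hn, fun _ => rfl⟩), fun x => (hta x).symm,
      fun c hc => ?_⟩
    show (c : Ω)⁻¹ * (t * (c : Ω) * t⁻¹) ∈ _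
    rw [← comm_of_centralizerIn hc ht, mul_inv_cancel_right, inv_mul_cancel]
    exact one_mem _
  rw [pResidual, MonoidHom.map_closure, Subgroup.closure_le]
  rintro _ ⟨⟨g, hgL⟩, hgc, rfl⟩
  have hgc' : (orderOf g).Coprime p := by
    have : (orderOf (⟨g, hgL⟩ : (liftSystem F p θ Z M').autGroup _)).Coprime p := hgc
    rwa [← Subgroup.orderOf_coe] at this
  have hgo : g ∈ (overSystem F θ M').autGroup (preimageAlong θ T') := by
    rw [mem_autGroup_iff le_rfl] at hgL ⊢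
    exact liftSystem_isSubsystemOf_over _ hgL
  obtain ⟨Q, hTQ, b₀, hQS, hb₀, hQc, hb1, hb2⟩ := h.exists_lift_trivialExt hTH hgo
  have := finite_of_le hQS
  have : Finite (MulAut Q) := Finite.of_injective (fun f : MulAut Q => (f : Q → Q))
    DFunLike.coe_injective
  obtain ⟨n, hn, hgn⟩ := exists_coprime_pow hgc' b₀
  have hb₀F := (mem_autGroup_iff hQS).1 hb₀
  have hpow : ∀ (m : ℕ) (x : preimageAlong θ T'), ((g ^ m) x : Ω)⁻¹ *
      ((b₀ ^ m) (Subgroup.inclusion hTQ x) : Ω) ∈ Z := by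
    intro m
    induction m with
    | zero =>
      intro x
      show (x : Ω)⁻¹ * (x : Ω) ∈ Z
      rw [inv_mul_cancel]; exact one_mem _
    | succ m ih =>
      intro x
      have hz := hb1 x
      have e : b₀ (Subgroup.inclusion hTQ x) = Subgroup.inclusion hTQ (g x) *
          (⟨_, hTQ (h.center_le_preimage hz)⟩ : Q) :=
        Subtype.ext (mul_inv_cancel_left _ _).symm
      rw [pow_succ, pow_succ, MulAut.mul_apply, MulAut.mul_apply, e, map_mul, Subgroup.coe_mul,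
        show ((b₀ ^ m) (⟨_, hTQ (h.center_le_preimage hz)⟩ : Q) : Ω) = _ from
          apply_eq_of_central h.central ((mem_autGroup_iff hQS).1 (pow_mem hb₀ m))
            (x := ⟨_, hTQ (h.center_le_preimage hz)⟩) hz, ← mul_assoc]
      exact mul_mem (ih (g x)) hz
  have hb₀T : ∀ x : Q, (x : Ω) ∈ preimageAlong θ T' → (b₀ x : Ω) ∈ preimageAlong θ T' :=
    fun x hx => stronglyClosed_apply h.stronglyClosed hb₀F hx
  obtain ⟨b₁, hb₁, hb₁v⟩ := exists_restrict_aut hTQ hQS (pow_mem hb₀ n) fun x hx =>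
    stronglyClosed_apply h.stronglyClosed ((mem_autGroup_iff hQS).1 (pow_mem hb₀ n)) hx
  have hgF : g ∈ F.autGroup (preimageAlong θ T') := by
    rw [mem_autGroup_iff le_rfl] at hgL
    exact (mem_autGroup_iff hT).2 (liftSystem_isSubsystemOf _ hgL)
  have hk : g⁻¹ * b₁ ∈ kerAut h.central hT := by
    refine mem_kerAut_of_same h.central h.factor hgF hb₁ fun x => ?_
    refine eq_of_inv_mul_mem h.factor ?_
    show (g x : Ω)⁻¹ * (b₁ x : Ω) ∈ Z
    rw [hb₁v]
    have := hpow n x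
    rwa [hgn] at this
  have hbo : b₁ ∈ (overSystem F θ M').autGroup (preimageAlong θ T') := by
    have := mul_mem hgo (kerAut_mem_over h.central h.factor h.center_le_preimage le_rfl hk)
    rwa [mul_inv_cancel_left] at this
  have hb₁c : (orderOf b₁).Coprime p := by
    refine Nat.Coprime.of_dvd_left (orderOf_dvd_of_pow_eq_one ?_) hn
    refine MulEquiv.ext fun x => Subtype.ext ?_
    rw [pow_agree hTQ hb₁v (orderOf (b₀ ^ n)) x, pow_orderOf_eq_one]
    rfl
  have hkI := h.inn_of_kerAut hT hTH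
    (mul_mem (inv_mem hgL) (isGen_liftSystem _ hTH _ hbo hb₁c)) hk
  rw [Inn_eq] at hkI
  obtain ⟨r, hr, -, hrv⟩ := mem_autInducedBy_iff.1 hkI
  -- the extension
  have hCQ : ∀ c ∈ centralizerIn S (preimageAlong θ T'),
      c ∈ Q ∧ ∀ hc : c ∈ S, θ ⟨c, hc⟩ ∈
        centralizerIn S' (imageAlong θ (preimageAlong θ T')) := by
    intro c hc
    have key : ∀ hcS : c ∈ S, θ ⟨c, hcS⟩ ∈
        centralizerIn S' (imageAlong θ (preimageAlong θ T')) := fun hcS => by
      refine mem_centralizerIn'.2 ⟨map_mem h.factor _, ?_⟩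
      rintro _ ⟨x, hx, rfl⟩
      rw [← map_inv, ← map_mul, ← map_mul]
      exact congrArg θ (Subtype.ext ((mem_centralizerIn'.1 hc).2 x hx))
    exact ⟨hQc ⟨c, (mem_centralizerIn'.1 hc).1⟩ (key _), key⟩
  have hVQ : preimageAlong θ T' ⊔ centralizerIn S (preimageAlong θ T') ≤ Q :=
    sup_le hTQ fun c hc => (hCQ c hc).1
  have hVS := sup_le hT (centralizerIn_le S (preimageAlong θ T'))
  have hbC : ∀ (m : ℕ) (c : Q), (c : Ω) ∈ centralizerIn S (preimageAlong θ T') →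
      (c : Ω)⁻¹ * ((b₀ ^ m) c : Ω) ∈ preimageAlong θ T' ∧
        ((b₀ ^ m) c : Ω) ∈ centralizerIn S (preimageAlong θ T') := by
    intro m
    induction m with
    | zero =>
      intro c hc
      exact ⟨by simp, hc⟩
    | succ m ih =>
      intro c hc
      have hbc : (b₀ c : Ω) ∈ centralizerIn S (preimageAlong θ T') := by
        refine mem_centralizerIn'.2 ⟨hQS (b₀ c).2, fun y hy => ?_⟩
        obtain ⟨a, haF, hav⟩ := exists_restrict_aut hTQ hQS hb₀ hb₀T
        obtain ⟨x, hx⟩ := a.surjective ⟨y, hy⟩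
        have h1 : y = (b₀ (Subgroup.inclusion hTQ x) : Ω) := by rw [← hav, hx]
        rw [h1, ← Subgroup.coe_inv, ← Subgroup.coe_mul, ← Subgroup.coe_mul, ← map_inv, ← map_mul,
          ← map_mul]
        exact congrArg (fun v : Q => (b₀ v : Ω))
          (Subtype.ext ((mem_centralizerIn'.1 hc).2 x x.2))
      have hd : (c : Ω)⁻¹ * (b₀ c : Ω) ∈ preimageAlong θ T' := hb2 c (fun hx => (hCQ c hc).2 hx)
      obtain ⟨h1, h2⟩ := ih (b₀ c) hbc
      rw [pow_succ, MulAut.mul_apply]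
      refine ⟨?_, h2⟩
      have := mul_mem hd h1
      rwa [mul_assoc, mul_inv_cancel_left] at this
  obtain ⟨β₀, hβ₀, hβ₀v⟩ := exists_restrict_aut hVQ hQS (pow_mem hb₀ n) fun x hx => by
    have hmap : ∀ y ∈ (preimageAlong θ T' ⊔ centralizerIn S (preimageAlong θ T')).subgroupOf Q,
        ((b₀ ^ n) y : Ω) ∈ preimageAlong θ T' ⊔ centralizerIn S (preimageAlong θ T') := by
      intro y hy
      rw [Subgroup.subgroupOf_sup hTQ (fun c hc => (hCQ c hc).1)] at hy
      have hsup : (preimageAlong θ T').subgroupOf Q ⊔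
          (centralizerIn S (preimageAlong θ T')).subgroupOf Q ≤
          ((preimageAlong θ T' ⊔ centralizerIn S (preimageAlong θ T')).comap
            (Q.subtype.comp (b₀ ^ n).toMonoidHom)) := by
        refine sup_le (fun z hz => Subgroup.mem_sup_left ?_)
          fun z hz => Subgroup.mem_sup_right (hbC n z hz).2
        exact stronglyClosed_apply h.stronglyClosed
          ((mem_autGroup_iff hQS).1 (pow_mem hb₀ n)) hz
      exact hsup hy
    exact hmap x hx
  have hrV : r ∈ preimageAlong θ T' ⊔ centralizerIn S (preimageAlong θ T') :=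
    Subgroup.mem_sup_left hr
  obtain ⟨cr, hcrdef⟩ : ∃ cr, cr =
      (preimageAlong θ T' ⊔ centralizerIn S (preimageAlong θ T')).normalizerMonoidHom
        ⟨r⁻¹, inv_mem (Subgroup.le_normalizer hrV)⟩ := ⟨_, rfl⟩
  refine ⟨β₀ * cr, mul_mem hβ₀ (hcrdef ▸ autInducedBy_le_autGroup hVS (mem_autInducedBy_iff.2
    ⟨r⁻¹, inv_mem (hT hr), inv_mem (Subgroup.le_normalizer hrV), fun _ => rfl⟩)),
    fun x => ?_, fun c hc => ?_⟩
  · have hx : r⁻¹ * (x : Ω) * r⁻¹⁻¹ ∈ preimageAlong θ T' :=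
      mul_mem (mul_mem (inv_mem hr) x.2) (inv_mem (inv_mem hr))
    have h1 : (g⁻¹ * b₁) ⟨_, hx⟩ = x := Subtype.ext (by rw [hrv]; group)
    have h2 : b₁ ⟨_, hx⟩ = g x := by
      have := congrArg g h1
      rwa [← MulAut.mul_apply, mul_inv_cancel_left] at this
    rw [MulAut.mul_apply, hcrdef, hβ₀v]
    refine Eq.trans ?_ (congrArg Subtype.val h2)
    rw [hb₁v]
    rfl
  · have e : cr c = c := Subtype.ext (by
      rw [hcrdef]
      show r⁻¹ * (c : Ω) * r⁻¹⁻¹ = c
      rw [← comm_of_centralizerIn hc (inv_mem hr), mul_inv_cancel_right])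
    rw [MulAut.mul_apply, e, hβ₀v]
    obtain ⟨h1, h2⟩ := hbC n (Subgroup.inclusion hVQ c) hc
    exact ⟨h1, (mul_mem (inv_mem hc) h2 : _ ∈ centralizerIn S (preimageAlong θ T')).2⟩

end IsCentralSetup

end CfsgLib.FusionLayer
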